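import Cfsg.Agent.Lib.Fusion.Alperin
import Cfsg.Agent.Lib.Fusion.Abelian
import Cfsg.Prelude.Def_Solvable

/-!
Groups in which every subgroup of mixed order is divisible by a large prime `p`: the residual
configuration with an elementary abelian Sylow 2-subgroup of order `p + 1`.
-/

open Subgroup
open scoped Pointwise

set_option linter.style.haveILetI false

namespace CfsgLib.Solvable.TwoPrimeMixed

universe u

variable {G : Type u} [Group G] [Finite G]

/-- The residual configuration. -/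
structure Conf (p : ℕ) (Q : Sylow 2 G) (h : G) : Prop where
  prime : p.Prime
  ne_two : p ≠ 2
  r_exists : ∃ r, r.Prime ∧ r ∣ Nat.card G ∧ r ≠ p ∧ r ≠ 2
  mixed : ∀ H : Subgroup G, 2 ∣ Nat.card H → ¬ p ∣ Nat.card H → IsPGroup 2 H
  proper : ∀ H : Subgroup G, H ≠ ⊤ → 2 ∣ Nat.card H → ∀ s : ℕ, s.Prime → s ∣ Nat.card H → s = p ∨ s = 2
  normal : ∀ N : Subgroup G, N.Normal → N = ⊥ ∨ N = ⊤
  center_bot : center G = ⊥
  abelian : ∀ P : Sylow p G, IsMulCommutative (P : Subgroup G)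
  card : Nat.card (Q : Subgroup G) = p + 1
  sq : ∀ x ∈ (Q : Subgroup G), x * x = 1
  h_pow : ∃ k, h ^ p ^ k = 1
  h_norm : ∀ x ∈ (Q : Subgroup G), h * x * h⁻¹ ∈ (Q : Subgroup G)
  trans : ∀ x ∈ (Q : Subgroup G), ∀ y ∈ (Q : Subgroup G), x ≠ 1 → y ≠ 1 →
    ∃ n : ℕ, h ^ n * x * (h ^ n)⁻¹ = y
  fix : ∀ (R : Sylow 2 G) (x : G), (∃ k, x ^ p ^ k = 1) → x ∈ normalizer ((R : Subgroup G) : Set G) →
    ∀ t ∈ (R : Subgroup G), t ≠ 1 → Commute x t → ∀ u ∈ (R : Subgroup G), Commute x u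
  small : ∀ U : Subgroup G, IsPGroup 2 U → Nat.card U < p + 1 → ∀ x : G, (∃ k, x ^ p ^ k = 1) →
    x ∈ normalizer (U : Set G) → x ∈ centralizer (U : Set G)

namespace Conf

variable {p : ℕ} {Q : Sylow 2 G} {h : G} (C : Conf p Q h)

omit [Finite G] in
theorem mem_pgroup_of_pow {x : G} {k : ℕ} (hx : x ^ p ^ k = 1) [Fact p.Prime] :
    IsPGroup p (zpowers x) := by
  rintro ⟨y, hy⟩
  obtain ⟨i, rfl⟩ := mem_zpowers_iff.1 hy
  exact ⟨k, Subtype.ext (by
    show (x ^ i) ^ p ^ k = 1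
    rw [← zpow_natCast, ← zpow_mul, mul_comm, zpow_mul, zpow_natCast, hx, one_zpow])⟩

include C

theorem comm_of_pgroup {K : Subgroup G} (hK : IsPGroup p K) {x y : G} (hx : x ∈ K) (hy : y ∈ K) :
    Commute x y := by
  obtain ⟨P, hP⟩ := hK.exists_le_sylow
  exact congrArg Subtype.val ((C.abelian P).is_comm.comm ⟨x, hP hx⟩ ⟨y, hP hy⟩)

theorem odd_of_pow {x : G} (hx : ∃ k, x ^ p ^ k = 1) : Odd (orderOf x) := by
  obtain ⟨k, hk⟩ := hx
  exact ((C.prime.odd_of_ne_two C.ne_two).pow).of_dvd_nat (orderOf_dvd_of_pow_eq_one hk)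

omit C in
/-- An element of odd order is a power of its fourth power. -/
theorem commute_of_pow_four {x z : G} (hx : Odd (orderOf x)) (hc : Commute (x ^ 4) z) :
    Commute x z := by
  have hcop : (4 : ℕ).Coprime (orderOf x) := by
    rw [show (4 : ℕ) = 2 ^ 2 by norm_num]
    exact (Nat.coprime_two_left.2 hx).pow_left 2
  obtain ⟨i, hi⟩ := mem_zpowers_iff.1 (show x ∈ zpowers (x ^ 4) from mem_zpowers_pow_iff.2 hcop)
  rw [← hi]
  exact hc.zpow_left i

theorem Q_comm {x y : G} (hx : x ∈ (Q : Subgroup G)) (hy : y ∈ (Q : Subgroup G)) : Commute x y := by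
  have h1 := C.sq _ (mul_mem hx hy)
  have ix : x⁻¹ = x := inv_eq_of_mul_eq_one_right (C.sq x hx)
  have iy : y⁻¹ = y := inv_eq_of_mul_eq_one_right (C.sq y hy)
  calc x * y = (x * y)⁻¹ := (inv_eq_of_mul_eq_one_right h1).symm
    _ = y * x := by rw [mul_inv_rev, ix, iy]

theorem orderOf_Q {x : G} (hx : x ∈ (Q : Subgroup G)) (h1 : x ≠ 1) : orderOf x = 2 :=
  orderOf_eq_prime (by rw [pow_two]; exact C.sq x hx) h1

theorem Q_inv {x : G} (hx : x ∈ (Q : Subgroup G)) : x⁻¹ = x :=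
  inv_eq_of_mul_eq_one_right (C.sq x hx)

omit C in
theorem exists_conj_mem {v : G} (hv : orderOf v = 2) :
    ∃ g : G, g * v * g⁻¹ ∈ (Q : Subgroup G) := by
  have hp : IsPGroup 2 (zpowers v) := by
    refine IsPGroup.of_card (n := 1) ?_
    rw [Nat.card_zpowers, hv, pow_one]
  obtain ⟨R, hR⟩ := hp.exists_le_sylow
  obtain ⟨g, hg⟩ := MulAction.exists_smul_eq G R Q
  refine ⟨g, ?_⟩
  rw [← hg, Sylow.coe_subgroup_smul, mem_pointwise_smul_iff_inv_smul_mem]
  show (MulAut.conj g)⁻¹ (g * v * g⁻¹) ∈ (R : Subgroup G)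
  rw [MulAut.inv_apply, MulAut.conj_symm_apply]
  convert hR (mem_zpowers v) using 1
  group

theorem involution_centralizer_ne_top {t : G} (ht : orderOf t = 2) :
    centralizer ({t} : Set G) ≠ ⊤ := by
  intro htop
  have h1 : t ∈ center G := mem_center_iff.2 fun g =>
    mem_centralizer_singleton_iff.1 (htop.ge (mem_top g))
  rw [C.center_bot, mem_bot] at h1
  rw [h1, orderOf_one] at ht
  omega

omit C in
theorem two_dvd_card {H : Subgroup G} {t : G} (ht : orderOf t = 2) (htH : t ∈ H) :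
    2 ∣ Nat.card H := by
  rw [← ht]; exact orderOf_dvd_natCard H htH

/-- An odd-order element of an involution centraliser has `p`-power order. -/
theorem pow_of_odd {H : Subgroup G} (hne : H ≠ ⊤) (h2 : 2 ∣ Nat.card H) {x : G} (hx : x ∈ H)
    (ho : Odd (orderOf x)) : ∃ k, x ^ p ^ k = 1 := by
  refine ⟨(orderOf x).primeFactorsList.length, ?_⟩
  conv_lhs => rw [← Nat.eq_prime_pow_of_unique_prime_dvd (orderOf_pos x).ne' (p := p) fun {d} hd hdx => by
    rcases C.proper H hne h2 d hd (hdx.trans (orderOf_dvd_natCard H hx)) with h | h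
    · exact h
    · subst h
      exact absurd hdx (fun hh => Nat.not_even_iff_odd.2 ho (even_iff_two_dvd.2 hh))]
  exact pow_orderOf_eq_one x

theorem centralizer_npc {t : G} (ht : orderOf t = 2) :
    Cfsg.HasNormalPComplement 2 (centralizer ({t} : Set G)) := by
  classical
  set K := centralizer ({t} : Set G) with hK
  have htK : t ∈ K := mem_centralizer_singleton_iff.2 rfl
  obtain ⟨S⟩ : Nonempty (Sylow 2 K) := inferInstance
  refine Fusion.Alperin.npc_of_frobenius S fun U hU g hg ho => ?_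
  have hgo : Odd (orderOf (g : G)) := by
    rw [orderOf_coe]; exact Nat.coprime_two_right.1 ho
  have hgp := C.pow_of_odd (C.involution_centralizer_ne_top ht) (two_dvd_card ht htK) g.2 hgo
  set U' := U.map K.subtype with hU'
  have hU'p : IsPGroup 2 U' := (S.isPGroup'.to_le hU).map K.subtype
  have hgN : (g : G) ∈ normalizer (U' : Set G) := by
    exact le_normalizer_map (H := U) K.subtype (mem_map_of_mem K.subtype hg)
  suffices hcen : ∀ u ∈ U', Commute (g : G) u by
    refine mem_centralizer_iff.2 fun u hu => Subtype.ext ?_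
    exact (hcen u (mem_map_of_mem _ hu)).symm.eq
  by_cases hlt : Nat.card U' < p + 1
  · intro u hu
    exact (mem_centralizer_iff.1 (C.small U' hU'p hlt _ hgp hgN) u hu).symm
  obtain ⟨R, hR⟩ := hU'p.exists_le_sylow
  have hcardR : Nat.card (R : Subgroup G) = p + 1 := by
    rw [R.card_eq_multiplicity, ← Q.card_eq_multiplicity, C.card]
  have hUR : U' = (R : Subgroup G) := eq_of_le_of_card_ge hR (by omega)
  have hUS : U = (S : Subgroup K) := by
    refine eq_of_le_of_card_ge hU ?_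
    have h1 : Nat.card ((S : Subgroup K).map K.subtype) ≤ Nat.card (R : Subgroup G) := by
      obtain ⟨R', hR'⟩ := (S.isPGroup'.map K.subtype).exists_le_sylow
      rw [R.card_eq_multiplicity, ← R'.card_eq_multiplicity]
      exact Nat.le_of_dvd Nat.card_pos (card_dvd_of_le hR')
    rw [card_map_of_injective K.subtype_injective, ← hUR, hU',
      card_map_of_injective K.subtype_injective] at h1
    exact h1
  have htR : t ∈ (R : Subgroup G) := by
    rw [← hUR, hU', hUS]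
    refine ⟨⟨t, htK⟩, ?_, rfl⟩
    have hcent : (⟨t, htK⟩ : K) ∈ center K := mem_center_iff.2 fun y => Subtype.ext
      (mem_centralizer_singleton_iff.1 y.2)
    have hz : IsPGroup 2 (zpowers (⟨t, htK⟩ : K)) := by
      refine IsPGroup.of_card (n := 1) ?_
      rw [Nat.card_zpowers, Subgroup.orderOf_mk, ht, pow_one]
    haveI : (zpowers (⟨t, htK⟩ : K)).Normal := ⟨fun n hn y => by
      have hn' : n ∈ center K := zpowers_le.2 hcent hn
      rwa [mem_center_iff.1 hn' y, mul_inv_cancel_right]⟩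
    exact (S.3 (IsPGroup.to_sup_of_normal_left hz S.isPGroup') le_sup_right).le
      (mem_sup_left (mem_zpowers _))
  intro u hu
  exact C.fix R _ hgp (hUR ▸ hgN) t htR (fun e => by rw [e, orderOf_one] at ht; omega)
    (mem_centralizer_singleton_iff.1 g.2) u (hUR ▸ hu)

/-- The odd-order part of an involution centraliser. -/
noncomputable def M (_C : Conf p Q h) (t : G) : Subgroup G :=
  (Cfsg.pResidual 2 (centralizer ({t} : Set G))).map (centralizer ({t} : Set G)).subtype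

theorem mem_M {t x : G} (ht : orderOf t = 2) : x ∈ C.M t ↔ Commute x t ∧ Odd (orderOf x) := by
  have hn := C.centralizer_npc ht
  constructor
  · rintro ⟨y, hy, rfl⟩
    refine ⟨mem_centralizer_singleton_iff.1 y.2, ?_⟩
    rw [coe_subtype, orderOf_coe]
    exact Nat.coprime_two_right.1 ((Fusion.Basic.mem_pResidual_iff hn).1 hy)
  · rintro ⟨hc, ho⟩
    refine ⟨⟨x, mem_centralizer_singleton_iff.2 hc.eq⟩, (Fusion.Basic.mem_pResidual_iff hn).2 ?_, rfl⟩
    rw [Subgroup.orderOf_mk]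
    exact Nat.coprime_two_right.2 ho

theorem M_pow {t x : G} (ht : orderOf t = 2) (hx : x ∈ C.M t) : ∃ k, x ^ p ^ k = 1 :=
  C.pow_of_odd (C.involution_centralizer_ne_top ht)
    (two_dvd_card ht (mem_centralizer_singleton_iff.2 rfl))
    (mem_centralizer_singleton_iff.2 ((C.mem_M ht).1 hx).1.eq) ((C.mem_M ht).1 hx).2

theorem M_isPGroup {t : G} (ht : orderOf t = 2) : IsPGroup p (C.M t) := fun x => by
  obtain ⟨k, hk⟩ := C.M_pow ht x.2
  exact ⟨k, Subtype.ext hk⟩

theorem M_comm {t x y : G} (ht : orderOf t = 2) (hx : x ∈ C.M t) (hy : y ∈ C.M t) : Commute x y :=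
  C.comm_of_pgroup (C.M_isPGroup ht) hx hy

theorem M_conj {t x c : G} (ht : orderOf t = 2) (hc : Commute c t) (hx : x ∈ C.M t) :
    c * x * c⁻¹ ∈ C.M t := by
  obtain ⟨h1, h2⟩ := (C.mem_M ht).1 hx
  refine (C.mem_M ht).2 ⟨?_, by rwa [← MulAut.conj_apply, MulEquiv.orderOf_eq]⟩
  exact (hc.mul_left h1).mul_left hc.inv_left

/-- The decomposition relative to a four-group acting on an abelian group of odd order. -/
theorem decomp {P : Subgroup G} (hPc : ∀ x ∈ P, ∀ y ∈ P, Commute x y) {u v : G}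
    (hu : u ∈ (Q : Subgroup G)) (hv : v ∈ (Q : Subgroup G))
    (hPu : ∀ x ∈ P, u * x * u⁻¹ ∈ P) (hPv : ∀ x ∈ P, v * x * v⁻¹ ∈ P) {y : G} (hy : y ∈ P) :
    ∃ f₁ ∈ P, ∃ f₂ ∈ P, ∃ f₃ ∈ P, Commute f₁ u ∧ Commute f₂ v ∧ Commute f₃ (u * v) ∧
      y ^ 4 = f₁ * f₂ * f₃ := by
  set a := MulAut.conj u with ha
  set b := MulAut.conj v with hb
  have haa : ∀ x, a (a x) = x := fun x => by
    rw [ha, MulAut.conj_apply, MulAut.conj_apply, show u * (u * x * u⁻¹) * u⁻¹ = (u * u) * x * (u * u)⁻¹ by group,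
      C.sq u hu, one_mul, inv_one, mul_one]
  have hbb : ∀ x, b (b x) = x := fun x => by
    rw [hb, MulAut.conj_apply, MulAut.conj_apply, show v * (v * x * v⁻¹) * v⁻¹ = (v * v) * x * (v * v)⁻¹ by group,
      C.sq v hv, one_mul, inv_one, mul_one]
  have hab : ∀ x, a (b x) = b (a x) := fun x => by
    simp only [ha, hb, MulAut.conj_apply]
    rw [show u * (v * x * v⁻¹) * u⁻¹ = (u * v) * x * (u * v)⁻¹ by group, (C.Q_comm hu hv).eq]
    group
  have hcu : ∀ x, a x = x → Commute x u := fun x hx => (mul_inv_eq_iff_eq_mul.1 hx).symm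
  have hcv : ∀ x, b x = x → Commute x v := fun x hx => (mul_inv_eq_iff_eq_mul.1 hx).symm
  have hau : ∀ x ∈ P, a x ∈ P := hPu
  have hbv : ∀ x ∈ P, b x ∈ P := hPv
  set e := y * a y with he
  set g := y * (a y)⁻¹ with hg
  have heP : e ∈ P := mul_mem hy (hau y hy)
  have hgP : g ∈ P := mul_mem hy (inv_mem (hau y hy))
  have hga : a g = g⁻¹ := by rw [hg, map_mul, map_inv, haa, mul_inv_rev, inv_inv]
  have hea : a e = e := by rw [he, map_mul, haa, (hPc _ hy _ (hau y hy)).eq]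
  have hesq : e * g = y * y := by
    rw [he, hg, mul_assoc, ← mul_assoc (a y), ← (hPc _ hy _ (hau y hy)).eq]; group
  clear_value g e
  have hf₃a : a (g * (b g)⁻¹) = (g * (b g)⁻¹)⁻¹ := by
    rw [map_mul, map_inv, hab, hga, map_inv, inv_inv, mul_inv_rev, inv_inv,
      (hPc _ (inv_mem hgP) _ (hbv g hgP)).eq]
  have hf₃b : b (g * (b g)⁻¹) = (g * (b g)⁻¹)⁻¹ := by
    rw [map_mul, map_inv, hbb, mul_inv_rev, inv_inv]
  refine ⟨e * e, mul_mem heP heP, g * b g, mul_mem hgP (hbv g hgP), g * (b g)⁻¹,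
    mul_mem hgP (inv_mem (hbv g hgP)), hcu _ (by rw [map_mul, hea]), hcv _ ?_, ?_, ?_⟩
  · rw [map_mul, hbb, (hPc _ hgP _ (hbv g hgP)).eq]
  · have h3 : a (b (g * (b g)⁻¹)) = g * (b g)⁻¹ := by rw [hf₃b, map_inv, hf₃a, inv_inv]
    refine (mul_inv_eq_iff_eq_mul.1 (Eq.trans ?_ h3)).symm
    simp only [ha, hb, MulAut.conj_apply]
    group
  · have hc1 : Commute y (a y) := hPc _ hy _ (hau y hy)
    have h2 : g * b g * (g * (b g)⁻¹) = g * g := by
      rw [mul_assoc g (b g), ← mul_assoc (b g), (hPc _ (hbv g hgP) _ hgP).eq]; group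
    rw [mul_assoc (e * e), h2]
    have hcge : Commute e g := hPc _ heP _ hgP
    have h3 : e * g = y * y := hesq
    rw [show e * e * (g * g) = (e * g) * (e * g) by
      rw [mul_assoc e g, ← mul_assoc g e, ← hcge.eq]; group, h3]
    rw [pow_succ, pow_succ, pow_succ, pow_one]; group

theorem cent_decomp {t c : G} (ht : t ∈ (Q : Subgroup G)) (ht1 : t ≠ 1) (hc : Commute c t) :
    ∃ m ∈ C.M t, ∃ u ∈ (Q : Subgroup G), c = m * u := by
  have hto := C.orderOf_Q ht ht1
  set K := centralizer ({t} : Set G) with hK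
  have hQK : (Q : Subgroup G) ≤ K := fun x hx => mem_centralizer_singleton_iff.2 (C.Q_comm hx ht).eq
  have htop := Fusion.Basic.pResidual_sup_sylow (p := 2) (Q.subtype hQK)
  have hmem : (⟨c, mem_centralizer_singleton_iff.2 hc.eq⟩ : K) ∈
      ((Cfsg.pResidual 2 K : Subgroup K) : Set K) * (((Q.subtype hQK : Sylow 2 K) : Subgroup K) : Set K) := by
    rw [← Subgroup.normal_mul, htop]; trivial
  obtain ⟨m, hm, u, hu, hmu⟩ := hmem
  exact ⟨m, ⟨m, hm, rfl⟩, u, hu, (congrArg Subtype.val hmu).symm⟩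

theorem h_npow_norm (n : ℕ) {x : G} (hx : x ∈ (Q : Subgroup G)) :
    h ^ n * x * (h ^ n)⁻¹ ∈ (Q : Subgroup G) := by
  induction n with
  | zero => simpa using hx
  | succ n ih =>
    rw [pow_succ', show h * h ^ n * x * (h * h ^ n)⁻¹ = h * (h ^ n * x * (h ^ n)⁻¹) * h⁻¹ by group]
    exact C.h_norm _ ih

theorem h_mem_normalizer : h ∈ normalizer ((Q : Subgroup G) : Set G) := by
  have h1 : (Q : Subgroup G).map (MulAut.conj h).toMonoidHom = (Q : Subgroup G) := by
    refine eq_of_le_of_card_ge ?_ (card_map_of_injective (MulAut.conj h).injective).ge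
    rintro _ ⟨w, hw, rfl⟩
    exact C.h_norm w hw
  refine mem_normalizer_iff.2 fun y => ⟨fun hy => C.h_norm y hy, fun hy => ?_⟩
  obtain ⟨w, hw, hwy⟩ := h1.ge hy
  rwa [← (MulAut.conj h).injective hwy]

end Conf

end CfsgLib.Solvable.TwoPrimeMixed
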