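import Cfsg.Agent.Lib.Solvable.TwoPrimeMixed.Basic
import Cfsg.Agent.Lib.Involution.ElemCentralizer
import Cfsg.Agent.Lib.Fusion.PSolvable
import Cfsg.Agent.Lib.Solvable.Cores
import Cfsg.Agent.Lib.Solvable.KegelWielandt
import Cfsg.Agent.S0144

/-!
The configuration in which every odd-order subgroup of an involution centraliser centralises the
Sylow 2-subgroup: counting involutions gives a contradiction.
-/

open Subgroup
open scoped Pointwise

set_option linter.style.haveILetI false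

namespace CfsgLib.Solvable.TwoPrimeMixed

universe u

variable {G : Type u} [Group G] [Finite G]

namespace Conf

variable {p : ℕ} {Q : Sylow 2 G} {h : G}

/-- All odd-order elements of involution centralisers centralise the Sylow 2-subgroup. -/
def Central (C : Conf p Q h) : Prop :=
  ∀ t ∈ (Q : Subgroup G), t ≠ 1 → ∀ y ∈ C.M t, ∀ u ∈ (Q : Subgroup G), Commute y u

variable (C : Conf p Q h) (hA : C.Central)

include C

theorem exists_ne_one : ∃ t ∈ (Q : Subgroup G), t ≠ 1 := by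
  by_contra hn
  push Not at hn
  have h1 : (Q : Subgroup G) = ⊥ := (eq_bot_iff_forall _).2 hn
  have h2 := C.card
  rw [h1, card_bot] at h2
  have := C.prime.pos
  omega

theorem exists_pair {t : G} (ht : t ∈ (Q : Subgroup G)) : ∃ u ∈ (Q : Subgroup G), u ≠ 1 ∧ u ≠ t := by
  by_contra hn
  push Not at hn
  have h1 : ((Q : Subgroup G) : Set G) ⊆ {1, t} := fun u hu => by
    by_cases h : u = 1
    · exact Or.inl h
    · exact Or.inr (hn u hu h)
  have h2 := Set.ncard_le_ncard h1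
  rw [← Nat.card_coe_set_eq] at h2
  have h3 : ({1, t} : Set G).ncard ≤ 2 := (Set.ncard_insert_le _ _).trans (by rw [Set.ncard_singleton])
  have := C.prime.two_le
  have h4 : Nat.card ((Q : Subgroup G) : Set G) = p + 1 := C.card
  omega

theorem normalizer_ne_top : normalizer ((Q : Subgroup G) : Set G) ≠ ⊤ := by
  intro htop
  obtain ⟨t, ht, ht1⟩ := C.exists_ne_one
  rcases C.normal _ (normalizer_eq_top_iff.1 htop) with h1 | h1
  · exact ht1 (mem_bot.1 (h1 ▸ ht))
  · obtain ⟨r, hr, hrG, -, hr2⟩ := C.r_exists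
    obtain ⟨k, hk⟩ := IsPGroup.iff_card.mp Q.isPGroup'
    rw [h1, card_top] at hk
    rw [hk] at hrG
    exact hr2 ((Nat.prime_dvd_prime_iff_eq hr Nat.prime_two).1 (hr.dvd_of_dvd_pow hrG))

include hA

theorem mem_Q_of_commute {t v : G} (ht : t ∈ (Q : Subgroup G)) (ht1 : t ≠ 1) (hv : v * v = 1)
    (hc : Commute v t) : v ∈ (Q : Subgroup G) := by
  obtain ⟨m, hm, u, hu, rfl⟩ := C.cent_decomp ht ht1 hc
  have hto := C.orderOf_Q ht ht1
  have hcm : Commute m u := hA t ht ht1 m hm u hu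
  have h1 : m * m = 1 := by
    have : m * u * (m * u) = (m * m) * (u * u) := hcm.symm.mul_mul_mul_comm m u
    rw [this, C.sq u hu, mul_one] at hv
    exact hv
  have h2 : m = 1 := by
    have ho := ((C.mem_M hto).1 hm).2
    have hd : orderOf m ∣ 2 := orderOf_dvd_of_pow_eq_one (by rw [pow_two]; exact h1)
    rcases (Nat.dvd_prime Nat.prime_two).1 hd with h | h
    · exact orderOf_eq_one_iff.1 h
    · rw [h] at ho; exact absurd ho (by decide)
  rwa [h2, one_mul]

theorem mem_normalizer_of_conj {t g : G} (ht : t ∈ (Q : Subgroup G)) (ht1 : t ≠ 1)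
    (hg : g * t * g⁻¹ ∈ (Q : Subgroup G)) : g ∈ normalizer ((Q : Subgroup G) : Set G) := by
  have h1 : ∀ w ∈ (Q : Subgroup G), g * w * g⁻¹ ∈ (Q : Subgroup G) := by
    intro w hw
    refine C.mem_Q_of_commute hA hg (fun e => ht1 (conj_eq_one_iff.1 e)) ?_ ?_
    · rw [show g * w * g⁻¹ * (g * w * g⁻¹) = g * (w * w) * g⁻¹ by group, C.sq w hw, mul_one, mul_inv_cancel]
    · have := (C.Q_comm hw ht).map (MulAut.conj g).toMonoidHom
      simpa using this
  have h2 : (Q : Subgroup G).map (MulAut.conj g).toMonoidHom = (Q : Subgroup G) := by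
    refine eq_of_le_of_card_ge ?_ (card_map_of_injective (MulAut.conj g).injective).ge
    rintro _ ⟨w, hw, rfl⟩
    exact h1 w hw
  refine mem_normalizer_iff.2 fun y => ⟨fun hy => h1 y hy, fun hy => ?_⟩
  obtain ⟨w, hw, hwy⟩ := h2.ge hy
  rwa [← (MulAut.conj g).injective hwy]

theorem involution_mem_Q {v : G} (hv : v * v = 1) (hvN : v ∈ normalizer ((Q : Subgroup G) : Set G)) :
    v ∈ (Q : Subgroup G) := by
  have hp : IsPGroup 2 (zpowers v) := by
    rintro ⟨y, hy⟩
    obtain ⟨i, rfl⟩ := mem_zpowers_iff.1 hy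
    exact ⟨1, Subtype.ext (by
      show (v ^ i) ^ 2 ^ 1 = 1
      rw [pow_one, ← zpow_natCast, ← zpow_mul, mul_comm, zpow_mul, zpow_natCast, pow_two, hv, one_zpow])⟩
  have hsup := IsPGroup.to_sup_of_normal_left' Q.2 hp (zpowers_le.2 hvN)
  have hm : v ∈ (Q : Subgroup G) ⊔ zpowers v := mem_sup_right (mem_zpowers v)
  rwa [Q.3 hsup le_sup_left] at hm

/-- The centraliser of a nontrivial element centralising `Q` normalises `Q`. -/
theorem centralizer_le {a : G} (ha : ∀ u ∈ (Q : Subgroup G), Commute a u) (hao : Odd (orderOf a))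
    (ha1 : a ≠ 1) : centralizer ({a} : Set G) ≤ normalizer ((Q : Subgroup G) : Set G) := by
  classical
  haveI : Fact p.Prime := ⟨C.prime⟩
  obtain ⟨t, ht, ht1⟩ := C.exists_ne_one
  have hto := C.orderOf_Q ht ht1
  set L := centralizer ({a} : Set G) with hL
  have hQL : (Q : Subgroup G) ≤ L := fun x hx => mem_centralizer_singleton_iff.2 (ha x hx).eq.symm
  have hLne : L ≠ ⊤ := fun htop => ha1 (mem_bot.1 (C.center_bot ▸ (mem_center_iff.2 fun g =>
    mem_centralizer_singleton_iff.1 (htop.ge (mem_top g)))))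
  have h2L : 2 ∣ Nat.card L := two_dvd_card hto (hQL ht)
  haveI : Group.IsSolvable L := by
    obtain ⟨i, j, hij⟩ : ∃ i j, Nat.card L = p ^ i * 2 ^ j := by
      refine ⟨(Nat.card L).factorization p, (Nat.card L).factorization 2, ?_⟩
      refine Nat.eq_of_factorization_eq Nat.card_pos.ne'
        (mul_ne_zero (pow_ne_zero _ C.prime.ne_zero) (by positivity)) fun s => ?_
      rw [Nat.factorization_mul (pow_ne_zero _ C.prime.ne_zero) (by positivity),
        C.prime.factorization_pow, Nat.prime_two.factorization_pow]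
      by_cases hs : s.Prime ∧ s ∣ Nat.card L
      · rcases C.proper L hLne h2L s hs.1 hs.2 with rfl | rfl
        · simp [Ne.symm C.ne_two]
        · simp [C.ne_two]
      · have h0 : (Nat.card L).factorization s = 0 := Nat.factorization_eq_zero_iff _ _ |>.2 (by tauto)
        rw [h0]
        have hsp : s ≠ p → s ≠ 2 → True := fun _ _ => trivial
        by_cases e1 : s = p
        · subst e1; simp [Ne.symm C.ne_two, h0]
        by_cases e2 : s = 2
        · subst e2; simp [C.ne_two, h0]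
        simp [Ne.symm e1, Ne.symm e2]
    exact Cfsg.Agent.S0144.result p 2 i j C.prime Nat.prime_two hij
  have hpow : ∀ x : G, (∀ u ∈ (Q : Subgroup G), Commute x u) → Odd (orderOf x) → x ∈ C.M t :=
    fun x hx ho => (C.mem_M hto).2 ⟨hx t ht, ho⟩
  -- `h` lies in `L`
  have hhL : h ∈ L := by
    obtain ⟨k, hk⟩ := C.h_pow
    set A : Subgroup G := C.M t ⊓ centralizer ((Q : Subgroup G) : Set G) with hAdef
    have hAp : IsPGroup p A := (C.M_isPGroup hto).to_le inf_le_left
    have hhA : zpowers h ≤ normalizer (A : Set G) := by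
      refine zpowers_le.2 ?_
      have h1 : A.map (MulAut.conj h).toMonoidHom = A := by
        refine eq_of_le_of_card_ge ?_ (card_map_of_injective (MulAut.conj h).injective).ge
        rintro _ ⟨w, ⟨hw1, hw2⟩, rfl⟩
        have hwQ : ∀ u ∈ (Q : Subgroup G), Commute (h * w * h⁻¹) u := fun u hu => by
          obtain ⟨v, hv, rfl⟩ : ∃ v ∈ (Q : Subgroup G), h * v * h⁻¹ = u :=
            ⟨h⁻¹ * u * h, (mem_normalizer_iff.1 C.h_mem_normalizer _).2 (by
              rwa [show h * (h⁻¹ * u * h) * h⁻¹ = u by group]), by group⟩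
          have := (show Commute w v from (mem_centralizer_iff.1 hw2 v hv).symm).map
            (MulAut.conj h).toMonoidHom
          simpa using this
        refine ⟨hpow _ hwQ ?_, mem_centralizer_iff.2 fun u hu => (hwQ u hu).eq.symm⟩
        show Odd (orderOf (MulAut.conj h w))
        rw [MulEquiv.orderOf_eq]
        exact ((C.mem_M hto).1 hw1).2
      refine mem_normalizer_iff.2 fun y => ⟨fun hy => h1.le ⟨y, hy, rfl⟩, fun hy => ?_⟩
      obtain ⟨w, hw, hwy⟩ := h1.ge hy
      rwa [← (MulAut.conj h).injective hwy]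
    have hP := IsPGroup.to_sup_of_normal_left' hAp (mem_pgroup_of_pow hk) hhA
    refine mem_centralizer_singleton_iff.2 (C.comm_of_pgroup hP ?_ ?_).eq
    · exact mem_sup_right (mem_zpowers h)
    · exact mem_sup_left ⟨hpow a ha hao, mem_centralizer_iff.2 fun u hu => (ha u hu).eq.symm⟩
  set O := Cfsg.pPrimeCore p L with hO
  haveI hOn : O.Normal := Cores.pPrimeCore_normal p
  by_cases hObot : O = ⊥
  · exfalso
    have hOp := Fusion.PSolvable.centralizer_pCore_le (Fusion.PSolvable.psolvable_of_solvable (G := L) (p := p)) hObot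
    set P := Cfsg.pCore p L
    haveI hPn : P.Normal := sSup_normal _ fun _ hh => hh.1
    set hh : L := ⟨h, hhL⟩
    obtain ⟨k, hk⟩ := C.h_pow
    obtain ⟨R, hR⟩ := (mem_pgroup_of_pow (p := p) (x := hh) (k := k) (Subtype.ext hk)).exists_le_sylow
    haveI : IsMulCommutative (R : Subgroup L) := ⟨⟨fun x y => Subtype.ext (Subtype.ext
      (C.comm_of_pgroup (R.isPGroup'.map L.subtype) (mem_map_of_mem _ x.2) (mem_map_of_mem _ y.2)).eq)⟩⟩
    have hPR : P ≤ (R : Subgroup L) := sSup_le fun N hN => by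
      haveI := hN.1
      exact (R.3 (IsPGroup.to_sup_of_normal_left hN.2 R.isPGroup') le_sup_right) ▸ le_sup_left
    have hhP : hh ∈ P := hOp (mem_centralizer_iff.2 fun x hx => congrArg Subtype.val
      (mul_comm' (⟨x, hPR hx⟩ : (R : Subgroup L)) ⟨hh, hR (mem_zpowers hh)⟩))
    set P' := P.map L.subtype with hP'
    have hPp : IsPGroup p P' := (R.isPGroup'.to_le hPR).map L.subtype
    have hPinv : ∀ u ∈ (Q : Subgroup G), ∀ x ∈ P', u * x * u⁻¹ ∈ P' := by
      rintro u hu _ ⟨x, hx, rfl⟩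
      exact ⟨(⟨u, hQL hu⟩ : L) * x * (⟨u, hQL hu⟩ : L)⁻¹, hPn.conj_mem x hx _, rfl⟩
    obtain ⟨u₂, hu₂, hu₂1, hu₂t⟩ := C.exists_pair ht
    obtain ⟨f₁, hf₁, f₂, hf₂, f₃, hf₃, c1, c2, c3, he⟩ :=
      C.decomp (fun x hx y hy => C.comm_of_pgroup hPp hx hy) ht hu₂ (hPinv t ht) (hPinv u₂ hu₂)
        (show h ∈ P' from ⟨hh, hhP, rfl⟩)
    have hodd : ∀ f ∈ P', Odd (orderOf f) := fun f hf => by
      obtain ⟨k, hk⟩ := hPp ⟨f, hf⟩
      exact C.odd_of_pow ⟨k, congrArg Subtype.val hk⟩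
    have htu : t * u₂ ≠ 1 := fun e => hu₂t (by rw [← inv_eq_of_mul_eq_one_right e, C.Q_inv ht])
    have hcf : ∀ f ∈ P', ∀ w ∈ (Q : Subgroup G), w ≠ 1 → Commute f w → ∀ z ∈ (Q : Subgroup G), Commute f z :=
      fun f hf w hw hw1 hfw => hA w hw hw1 f ((C.mem_M (C.orderOf_Q hw hw1)).2 ⟨hfw, hodd f hf⟩)
    have hcomm : Commute h t := by
      refine commute_of_pow_four (C.odd_of_pow C.h_pow) ?_
      rw [he]
      exact ((hcf f₁ hf₁ t ht ht1 c1 t ht).mul_left (hcf f₂ hf₂ u₂ hu₂ hu₂1 c2 t ht)).mul_left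
        (hcf f₃ hf₃ _ (mul_mem ht hu₂) htu c3 t ht)
    obtain ⟨n, hn⟩ := C.trans t ht u₂ hu₂ ht1 hu₂1
    rw [(hcomm.pow_left n).eq, mul_inv_cancel_right] at hn
    exact hu₂t hn.symm
  intro g hg
  set O' := O.map L.subtype with hO'
  obtain ⟨⟨⟨w, hwL⟩, hw⟩, hwne⟩ := ne_bot_iff_exists_ne_one.1 hObot
  have hw1 : (⟨w, hwL⟩ : L) ≠ 1 := fun e => hwne (Subtype.ext e)
  have hO2 : IsPGroup 2 O := by
    refine IsPGroup.of_card (n := (Nat.card O).primeFactorsList.length)
      (Nat.eq_prime_pow_of_unique_prime_dvd Nat.card_pos.ne' fun {s} hs hsd => ?_)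
    rcases C.proper L hLne h2L s hs (hsd.trans (card_subgroup_dvd_card O)) with h | h
    · subst h
      exact absurd hsd (fun hh => C.prime.coprime_iff_not_dvd.1 (Cores.coprime_card_pPrimeCore s).symm hh)
    · exact h
  have hOQ : ∀ x ∈ O, (x : G) ∈ (Q : Subgroup G) := fun x hx =>
    ((Q.subtype hQL).3 (IsPGroup.to_sup_of_normal_left hO2 (Q.subtype hQL).isPGroup') le_sup_right).le
      (mem_sup_left hx)
  refine C.mem_normalizer_of_conj hA (hOQ _ hw) (fun e => hw1 (Subtype.ext e)) ?_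
  exact hOQ _ (hOn.conj_mem _ hw ⟨g, hg⟩)

/-- Every `p`-element is conjugate into the normaliser of `Q`. -/
theorem exists_conj_normalizer {x : G} (hx : ∃ k, x ^ p ^ k = 1) :
    ∃ g : G, g * x * g⁻¹ ∈ normalizer ((Q : Subgroup G) : Set G) := by
  classical
  haveI : Fact p.Prime := ⟨C.prime⟩
  obtain ⟨t, ht, ht1⟩ := C.exists_ne_one
  have hto := C.orderOf_Q ht ht1
  suffices hP : ∃ P : Sylow p G, (P : Subgroup G) ≤ normalizer ((Q : Subgroup G) : Set G) by
    obtain ⟨P, hP⟩ := hP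
    obtain ⟨k, hk⟩ := hx
    obtain ⟨R, hR⟩ := (mem_pgroup_of_pow hk).exists_le_sylow
    obtain ⟨g, hg⟩ := MulAction.exists_smul_eq G R P
    refine ⟨g, hP ?_⟩
    rw [← hg, Sylow.coe_subgroup_smul, mem_pointwise_smul_iff_inv_smul_mem]
    show (MulAut.conj g)⁻¹ (g * x * g⁻¹) ∈ (R : Subgroup G)
    rw [MulAut.inv_apply, MulAut.conj_symm_apply]
    convert hR (mem_zpowers x) using 1
    group
  by_cases hne : ∃ a ∈ C.M t, a ≠ 1
  · obtain ⟨a, ha, ha1⟩ := hne
    obtain ⟨k, hk⟩ := C.M_pow hto ha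
    obtain ⟨P, hP⟩ := (mem_pgroup_of_pow hk).exists_le_sylow
    refine ⟨P, fun y hy => C.centralizer_le hA (hA t ht ht1 a ha) ((C.mem_M hto).1 ha).2 ha1 ?_⟩
    exact mem_centralizer_singleton_iff.2 (C.comm_of_pgroup P.isPGroup' hy (hP (mem_zpowers a))).eq
  push Not at hne
  -- every involution centraliser is a Sylow 2-subgroup
  have hcQ : ∀ u ∈ (Q : Subgroup G), u ≠ 1 → ∀ c, Commute c u → c ∈ (Q : Subgroup G) := by
    intro u hu hu1 c hc
    obtain ⟨m, hm, w, hw, rfl⟩ := C.cent_decomp hu hu1 hc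
    have hmt : m ∈ C.M t := (C.mem_M hto).2 ⟨hA u hu hu1 m hm t ht, ((C.mem_M (C.orderOf_Q hu hu1)).1 hm).2⟩
    rw [hne m hmt, one_mul]
    exact hw
  have hHyp : Involution.ElemCentralizer.Hyp Q := by
    refine ⟨fun hc => ?_, fun hn => C.normalizer_ne_top (normalizer_eq_top_iff.2 hn), fun v hv => ?_⟩
    · obtain ⟨⟨w, hwQ⟩, hw⟩ := hc.exists_generator
      obtain ⟨u, hu, hu1, hut⟩ := C.exists_pair ht
      have hall : ∀ y ∈ (Q : Subgroup G), y = 1 ∨ y = w := fun y hy => by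
        obtain ⟨i, hi⟩ := mem_zpowers_iff.1 (hw ⟨y, hy⟩)
        have hi' : w ^ i = y := congrArg Subtype.val hi
        rcases Int.even_or_odd i with ⟨j, rfl⟩ | ⟨j, rfl⟩
        · left; rw [← hi', zpow_add, ← (Commute.refl w).mul_zpow, C.sq w hwQ, one_zpow]
        · right
          rw [← hi', zpow_add, zpow_one, two_mul, zpow_add, ← (Commute.refl w).mul_zpow, C.sq w hwQ,
            one_zpow, one_mul]
      rcases hall t ht with h | h
      · exact ht1 h
      rcases hall u hu with h' | h'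
      · exact hu1 h'
      exact hut (h'.trans h.symm)
    · obtain ⟨g, hg⟩ := exists_conj_mem (Q := Q) hv
      have hg1 : g * v * g⁻¹ ≠ 1 := fun e => by
        rw [conj_eq_one_iff] at e; rw [e, orderOf_one] at hv; omega
      have hin : ∀ c ∈ centralizer ({v} : Set G), g * c * g⁻¹ ∈ (Q : Subgroup G) := fun c hc => by
        refine hcQ _ hg hg1 _ ?_
        have := (show Commute c v from mem_centralizer_singleton_iff.1 hc).map (MulAut.conj g).toMonoidHom
        simpa using this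
      refine ⟨⟨⟨fun c d => Subtype.ext ?_⟩⟩, fun c hc => ?_⟩
      · have := (C.Q_comm (hin c c.2) (hin d d.2)).map (MulAut.conj g⁻¹).toMonoidHom
        simpa [mul_assoc] using this.eq
      · have h1 := C.sq _ (hin c hc)
        rw [show g * c * g⁻¹ * (g * c * g⁻¹) = g * (c * c) * g⁻¹ by group, conj_eq_one_iff] at h1
        rw [pow_two, h1]
  obtain ⟨w, hw⟩ : ∃ g : G, g * t * g⁻¹ ∉ (Q : Subgroup G) := by
    by_contra hall
    push Not at hall
    exact C.normalizer_ne_top (eq_top_iff.2 fun g _ => C.mem_normalizer_of_conj hA ht ht1 (hall g))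
  set v := w * t * w⁻¹ with hv
  have hv2 : orderOf v = 2 := by rw [hv, ← MulAut.conj_apply, MulEquiv.orderOf_eq, hto]
  have hvH : v ∉ Involution.ElemCentralizer.nrm Q := fun hm =>
    hw (C.involution_mem_Q hA (by rw [← pow_two, ← hv2, pow_orderOf_eq_one]) hm)
  obtain ⟨d, hd, hd1⟩ := Involution.ElemCentralizer.exists_dd_ne_one hHyp hv2 hvH
  have hdp : ∃ k, d ^ p ^ k = 1 := by
    have hc : Nat.card (Involution.ElemCentralizer.dd Q v) = p := by
      have h1 := Involution.ElemCentralizer.card_dd hHyp hv2 hvH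
      have h2 : Nat.card (Q : Subgroup G) = p + 1 := C.card
      omega
    exact ⟨1, by rw [pow_one, ← orderOf_dvd_iff_pow_eq_one]; exact hc ▸ orderOf_dvd_natCard _ hd⟩
  obtain ⟨k, hk⟩ := hdp
  obtain ⟨P, hP⟩ := (mem_pgroup_of_pow hk).exists_le_sylow
  refine ⟨P, fun x hxP => ?_⟩
  have hc : Commute x d := C.comm_of_pgroup P.isPGroup' hxP (hP (mem_zpowers d))
  obtain ⟨hda, hdb⟩ := Involution.ElemCentralizer.mem_dd_iff.1 hd
  have key : ∀ y : G ⧸ Involution.ElemCentralizer.nrm Q, d • y = y → d • (x • y) = x • y := fun y hy => by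
    rw [smul_smul, ← hc.eq, mul_smul, hy]
  have hxo : Odd (orderOf x) := by
    obtain ⟨j, hj⟩ := P.isPGroup' ⟨x, hxP⟩
    exact C.odd_of_pow ⟨j, congrArg Subtype.val hj⟩
  have hne' : ((1 : G) : G ⧸ Involution.ElemCentralizer.nrm Q) ≠ (v : G ⧸ Involution.ElemCentralizer.nrm Q) :=
    fun e => hvH (Involution.ElemCentralizer.mk_eq_one_iff.1 e.symm)
  have hx2 : x ^ 2 ∈ Involution.ElemCentralizer.nrm Q := by
    rw [← Involution.ElemCentralizer.fixes_one_iff, pow_two, mul_smul]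
    rcases Involution.ElemCentralizer.fix_eq hHyp hv2 hvH hd hd1 (key _ hda) with h1 | h1
    · rw [h1, h1]
    · rcases Involution.ElemCentralizer.fix_eq hHyp hv2 hvH hd hd1 (key _ hdb) with h2 | h2
      · rw [h1, h2]
      · exact absurd (smul_left_cancel x (h1.trans h2.symm)) hne'
  have hx' : x ∈ zpowers (x ^ 2) := mem_zpowers_pow_iff.2 (Nat.coprime_two_left.2 hxo)
  exact zpowers_le.2 hx2 hx'

omit hA in
/-- A nontrivial element inverted by an involution is a `p`-element, provided its order is odd. -/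
theorem pow_of_inverted {s y : G} (hs : orderOf s = 2) (hy : s * y * s⁻¹ = y⁻¹) (ho : Odd (orderOf y)) :
    ∃ k, y ^ p ^ k = 1 := by
  classical
  refine ⟨(orderOf y).primeFactorsList.length, ?_⟩
  conv_lhs => rw [← Nat.eq_prime_pow_of_unique_prime_dvd (orderOf_pos y).ne' (p := p) fun {r} hr hrd => by
    by_contra hrp
    have hr2 : r ≠ 2 := fun e => Nat.not_even_iff_odd.2 ho (even_iff_two_dvd.2 (e ▸ hrd))
    set w := y ^ (orderOf y / r) with hw
    have hwo : orderOf w = r := by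
      rw [hw, orderOf_pow, Nat.gcd_eq_right (Nat.div_dvd_of_dvd hrd),
        Nat.div_div_self hrd (orderOf_pos y).ne']
    have hsw : zpowers s ≤ normalizer ((zpowers w : Subgroup G) : Set G) := by
      refine zpowers_le.2 ?_
      have h1 : (zpowers w).map (MulAut.conj s).toMonoidHom = zpowers w := by
        rw [MonoidHom.map_zpowers, MulEquiv.coe_toMonoidHom, MulAut.conj_apply, hw, ← conj_pow, hy,
          inv_pow, zpowers_inv]
      refine mem_normalizer_iff.2 fun z => ⟨fun hz => h1.le ⟨z, hz, rfl⟩, fun hz => ?_⟩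
      obtain ⟨z', hz', hzz⟩ := h1.ge hz
      rwa [← (MulAut.conj s).injective hzz]
    set K := zpowers s ⊔ zpowers w with hK
    have hKcard : Nat.card K ∣ 2 * r := by
      have h1 := KegelWielandt.card_sup_dvd hsw
      rw [sup_comm, ← hK, Nat.card_zpowers, Nat.card_zpowers, hwo, hs] at h1
      rwa [mul_comm]
    have h2K : 2 ∣ Nat.card K := two_dvd_card hs (mem_sup_left (mem_zpowers s))
    have hpK : ¬ p ∣ Nat.card K := fun h => by
      rcases C.prime.dvd_mul.1 (h.trans hKcard) with h | h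
      · exact C.ne_two ((Nat.prime_dvd_prime_iff_eq C.prime Nat.prime_two).1 h)
      · exact hrp ((Nat.prime_dvd_prime_iff_eq C.prime hr).1 h).symm
    obtain ⟨k, hk⟩ := IsPGroup.iff_card.mp (C.mixed K h2K hpK)
    have h3 : r ∣ 2 ^ k := hk ▸ hwo ▸ orderOf_dvd_natCard K (mem_sup_right (mem_zpowers w))
    exact hr2 ((Nat.prime_dvd_prime_iff_eq hr Nat.prime_two).1 (hr.dvd_of_dvd_pow h3))]
  exact pow_orderOf_eq_one y

/-- The central configuration is impossible. -/
theorem central_false : False := by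
  classical
  haveI : Fact p.Prime := ⟨C.prime⟩
  obtain ⟨s, hsQ, hs1⟩ := C.exists_ne_one
  have hs2 := C.orderOf_Q hsQ hs1
  have hss : s * s = 1 := C.sq s hsQ
  set N := normalizer ((Q : Subgroup G) : Set G) with hN
  set α : G ⧸ N := ((1 : G) : G ⧸ N) with hα
  have hfix : ∀ (g x : G), x • (g : G ⧸ N) = (g : G ⧸ N) ↔ g⁻¹ * x * g ∈ N := fun g x => by
    rw [MulAction.Quotient.smul_mk, smul_eq_mul, eq_comm, QuotientGroup.eq, ← mul_assoc]
  have honly : ∀ g : G, g⁻¹ * s * g ∈ N → (g : G ⧸ N) = α := fun g hg => by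
    have h1 : g⁻¹ * s * g ∈ (Q : Subgroup G) := C.involution_mem_Q hA
      (by rw [show g⁻¹ * s * g * (g⁻¹ * s * g) = g⁻¹ * (s * s) * g by group, hss, mul_one, inv_mul_cancel]) hg
    have h2 := C.mem_normalizer_of_conj hA (g := g) h1 (fun e => hs1 (by
      calc s = g * (g⁻¹ * s * g) * g⁻¹ := by group
        _ = 1 := by rw [e, mul_one, mul_inv_cancel]))
      (by rwa [show g * (g⁻¹ * s * g) * g⁻¹ = s by group])
    rw [hα, QuotientGroup.eq, mul_one]
    exact inv_mem h2
  have hmove : ∀ γ : G ⧸ N, γ ≠ α → s • γ ≠ γ := fun γ hγ he => by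
    obtain ⟨g, rfl⟩ := QuotientGroup.mk_surjective γ
    exact hγ (honly g ((hfix g s).1 he))
  -- inverted elements
  let E := {y : G // s * y * s⁻¹ = y⁻¹ ∧ Odd (orderOf y) ∧ y ≠ 1}
  let Ω := {γ : G ⧸ N // γ ≠ α}
  let Qs := {x : (Q : Subgroup G) // x ≠ 1}
  let F : Ω → Type u := fun γ => {y : E // y.1 • γ.1 = γ.1}
  have hQs : Nat.card Qs = p := by
    haveI := Fintype.ofFinite (Q : Subgroup G)
    rw [Nat.card_eq_fintype_card, Fintype.card_subtype_compl, Fintype.card_subtype_eq,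
      ← Nat.card_eq_fintype_card, C.card]
    omega
  have hinvE : ∀ y : E, ∀ γ : G ⧸ N, y.1 • γ = γ → y.1 • (s • γ) = s • γ := fun y γ he => by
    have h1 : y.1 * s = s * y.1⁻¹ := by
      calc y.1 * s = (s * s) * y.1 * s := by rw [hss, one_mul]
        _ = s * (s * y.1 * s) := by group
        _ = s * (s * y.1 * s⁻¹) := congrArg (fun z => s * (s * y.1 * z)) (inv_eq_of_mul_eq_one_right hss).symm
        _ = s * y.1⁻¹ := by rw [y.2.1]
    rw [smul_smul, h1, mul_smul, inv_smul_eq_iff.2 he.symm]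
  -- each inverted element fixes a point other than `α`
  have hpt : ∀ y : E, ∃ γ : Ω, (y.1 : G) • γ.1 = γ.1 := by
    intro y
    obtain ⟨g, hg⟩ := C.exists_conj_normalizer hA (C.pow_of_inverted hs2 y.2.1 y.2.2.1)
    refine ⟨⟨((g⁻¹ : G) : G ⧸ N), fun he => ?_⟩, (hfix _ _).2 (by rwa [inv_inv])⟩
    rw [hα, QuotientGroup.eq, mul_one, inv_inv] at he
    have hyN : y.1 ∈ N := by
      have := N.mul_mem (N.mul_mem (N.inv_mem he) hg) he
      rwa [show g⁻¹ * (g * y.1 * g⁻¹) * g = y.1 by group] at this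
    have h1 : y.1 * s * y.1⁻¹ * s ∈ (Q : Subgroup G) :=
      mul_mem ((mem_normalizer_iff.1 hyN s).1 hsQ) hsQ
    rw [show y.1 * s * y.1⁻¹ * s = y.1 * (s * y.1⁻¹ * s⁻¹) * (s * s) by group, hss, mul_one,
      show s * y.1⁻¹ * s⁻¹ = (s * y.1 * s⁻¹)⁻¹ by group, y.2.1, inv_inv] at h1
    have h2 := C.sq _ h1
    refine y.2.2.2 (orderOf_eq_one_iff.1 ?_)
    have h3 : orderOf y.1 ∣ 2 ^ 2 := orderOf_dvd_of_pow_eq_one (by
      rw [pow_two 2, pow_mul, pow_two, pow_two]; exact h2)
    exact Nat.eq_one_of_dvd_coprimes ((Nat.coprime_two_left.2 y.2.2.1).pow_left 2).symm dvd_rfl h3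
  choose γ₀ hγ₀ using hpt
  have hsΩ : ∀ γ : Ω, s • γ.1 ≠ α := fun γ he => γ.2 (by
    rw [← one_smul G γ.1, ← hss, mul_smul, he]
    exact (hfix 1 s).2 (by rw [inv_one, one_mul, mul_one]; exact le_normalizer hsQ))
  -- the double cover
  let Φ : E × Bool → Σ γ : Ω, F γ := fun w =>
    if w.2 then ⟨γ₀ w.1, w.1, hγ₀ w.1⟩
    else ⟨⟨s • (γ₀ w.1).1, hsΩ _⟩, w.1, hinvE w.1 _ (hγ₀ w.1)⟩
  have hΦ : Function.Injective Φ := by
    rintro ⟨y, b⟩ ⟨z, c⟩ he
    have hfst : (Φ (y, b)).2.1 = (Φ (z, c)).2.1 := congrArg (fun w : Σ γ : Ω, F γ => w.2.1) he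
    have hy1 : ∀ w : E × Bool, (Φ w).2.1 = w.1 := by
      rintro ⟨w, b'⟩; cases b' <;> rfl
    rw [hy1, hy1] at hfst
    simp only at hfst
    subst hfst
    have hp1 : ((Φ (y, b)).1).1 = ((Φ (y, c)).1).1 := congrArg (fun w : Σ γ : Ω, F γ => w.1.1) he
    cases b <;> cases c
    · rfl
    · exact absurd hp1 (hmove _ (γ₀ y).2)
    · exact absurd hp1.symm (hmove _ (γ₀ y).2)
    · rfl
  -- fibres are small
  have hF : ∀ γ : Ω, Nat.card (F γ) + 1 ≤ p := by
    intro γ
    obtain ⟨g, hg⟩ := QuotientGroup.mk_surjective γ.1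
    obtain ⟨x₀, hx₀, hx₀1⟩ := C.exists_ne_one
    set D := MulAction.stabilizer G γ.1 ⊓ MulAction.stabilizer G (s • γ.1) with hD
    have hDne : D ≠ ⊤ := fun htop => by
      have h1 : s ∈ MulAction.stabilizer G γ.1 := (mem_inf.1 (htop.ge (mem_top s))).1
      exact hmove γ.1 γ.2 h1
    have hDodd : ¬ 2 ∣ Nat.card D := by
      intro hd
      obtain ⟨⟨v, hv1, hv2⟩, hv⟩ := exists_prime_orderOf_dvd_card' 2 hd
      rw [← Subgroup.orderOf_coe] at hv
      change orderOf v = 2 at hv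
      have hvv : v * v = 1 := by rw [← pow_two, ← hv, pow_orderOf_eq_one]
      have hsv : v • ((s * g : G) : G ⧸ N) = ((s * g : G) : G ⧸ N) := by
        have : ((s * g : G) : G ⧸ N) = s • γ.1 := by rw [← hg]; rfl
        rw [this]; exact hv2
      have hconj : ∀ k : G, v • (k : G ⧸ N) = (k : G ⧸ N) → k⁻¹ * v * k ∈ (Q : Subgroup G) := fun k hk =>
        C.involution_mem_Q hA
          (by rw [show k⁻¹ * v * k * (k⁻¹ * v * k) = k⁻¹ * (v * v) * k by group, hvv, mul_one, inv_mul_cancel])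
          ((hfix k v).1 hk)
      have h1 := hconj g (by rw [hg]; exact hv1)
      have h2 := hconj (s * g) hsv
      have h3 := C.mem_normalizer_of_conj hA (g := g⁻¹ * s * g) h1
        (fun e => by
          rw [show v = g * (g⁻¹ * v * g) * g⁻¹ by group, e, mul_one, mul_inv_cancel, orderOf_one] at hv
          omega)
        (by convert h2 using 1; simp only [mul_inv_rev, inv_inv, inv_eq_of_mul_eq_one_right hss]; group)
      exact γ.2 (hg ▸ honly g h3)
    have hDp : IsPGroup p D := by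
      refine IsPGroup.of_card (n := (Nat.card D).primeFactorsList.length)
        (Nat.eq_prime_pow_of_unique_prime_dvd Nat.card_pos.ne' fun {r} hr hrd => ?_)
      have hle : D.map (MulAut.conj g⁻¹).toMonoidHom ≤ N := by
        rintro _ ⟨d, hd, rfl⟩
        rw [MulEquiv.coe_toMonoidHom, MulAut.conj_apply, inv_inv]
        exact (hfix g d).1 (by rw [hg]; exact (mem_inf.1 hd).1)
      have hrN : r ∣ Nat.card N := by
        rw [← card_map_of_injective (f := (MulAut.conj g⁻¹).toMonoidHom) (MulAut.conj g⁻¹).injective] at hrd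
        exact hrd.trans (card_dvd_of_le hle)
      rcases C.proper N C.normalizer_ne_top (two_dvd_card hs2 (le_normalizer hsQ)) r hr hrN with h | h
      · exact h
      · exact absurd (h ▸ hrd) hDodd
    have hDmem : ∀ y : F γ, y.1.1 ∈ D := fun y => ⟨y.2, hinvE y.1 _ y.2⟩
    let ψ : F γ → Qs := fun y => ⟨⟨(g⁻¹ * y.1.1 * g) * x₀ * (g⁻¹ * y.1.1 * g)⁻¹,
      (mem_normalizer_iff.1 ((hfix g y.1.1).1 (by rw [hg]; exact y.2)) x₀).1 hx₀⟩,
      fun e => hx₀1 (conj_eq_one_iff.1 (congrArg Subtype.val e))⟩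
    have hkey : ∀ z : G, z ∈ D → s * z * s⁻¹ = z⁻¹ → Commute (g⁻¹ * z * g) x₀ → z = 1 := by
      intro z hz hzs hzc
      by_contra hz1
      set z' := g⁻¹ * z * g with hz'
      have hz'p : ∃ k, z' ^ p ^ k = 1 := by
        obtain ⟨k, hk⟩ := hDp ⟨z, hz⟩
        refine ⟨k, ?_⟩
        have h0 : z ^ p ^ k = 1 := congrArg Subtype.val hk
        have := congrArg (MulAut.conj g⁻¹) h0
        rw [map_pow, map_one, MulAut.conj_apply, inv_inv] at this
        exact this
      have hz'Q := C.fix Q z' hz'p ((hfix g z).1 (by rw [hg]; exact (mem_inf.1 hz).1)) x₀ hx₀ hx₀1 hzc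
      have hz'1 : z' ≠ 1 := fun e => hz1 (by
        calc z = g * z' * g⁻¹ := by rw [hz']; group
          _ = 1 := by rw [e, mul_one, mul_inv_cancel])
      have h2 : Commute (g * x₀ * g⁻¹) z := by
        have := ((hz'Q x₀ hx₀).symm.map (MulAut.conj g).toMonoidHom)
        simpa [hz', mul_assoc] using this
      have h3 : Commute (s * (g * x₀ * g⁻¹) * s⁻¹) z := by
        have h4 := h2.map (MulAut.conj s).toMonoidHom
        simp only [MulEquiv.coe_toMonoidHom, MulAut.conj_apply, hzs] at h4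
        exact Commute.inv_right_iff.1 h4
      set v := g⁻¹ * (s * (g * x₀ * g⁻¹) * s⁻¹) * g with hv
      have h5 : v ∈ centralizer ({z'} : Set G) := by
        rw [mem_centralizer_singleton_iff]
        have := h3.map (MulAut.conj g⁻¹).toMonoidHom
        simpa [hv, hz', mul_assoc] using this.eq
      have h6 := C.involution_mem_Q hA
        (by
          rw [hv, show g⁻¹ * (s * (g * x₀ * g⁻¹) * s⁻¹) * g * (g⁻¹ * (s * (g * x₀ * g⁻¹) * s⁻¹) * g) =
            g⁻¹ * s * g * (x₀ * x₀) * g⁻¹ * s⁻¹ * g by group, C.sq x₀ hx₀]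
          group)
        (C.centralizer_le hA hz'Q (C.odd_of_pow hz'p) hz'1 h5)
      have h7 := C.mem_normalizer_of_conj hA (g := g⁻¹ * s * g) hx₀ hx₀1
        (by convert h6 using 1; rw [hv]; group)
      exact γ.2 (hg ▸ honly g h7)
    let ψ' : Option (F γ) → Qs := fun o => o.elim ⟨⟨x₀, hx₀⟩, fun e => hx₀1 (congrArg Subtype.val e)⟩ ψ
    have hψ : Function.Injective ψ' := by
      rintro (_ | y) (_ | z) he
      · rfl
      · exfalso
        have e := congrArg (fun w : Qs => (w.1 : G)) he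
        exact z.1.2.2.2 (hkey _ (hDmem z) z.1.2.1 (mul_inv_eq_iff_eq_mul.1 (Eq.symm e)))
      · exfalso
        have e := congrArg (fun w : Qs => (w.1 : G)) he
        exact y.1.2.2.2 (hkey _ (hDmem y) y.1.2.1 (mul_inv_eq_iff_eq_mul.1 e))
      · refine congrArg some (Subtype.ext (Subtype.ext ?_))
        have e := congrArg (fun w : Qs => (w.1 : G)) he
        simp only [ψ', ψ, Option.elim_some] at e
        have hyz := C.comm_of_pgroup hDp (hDmem y) (hDmem z)
        have h1 : y.1.1⁻¹ * z.1.1 = 1 := by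
          refine hkey _ (mul_mem (inv_mem (hDmem y)) (hDmem z)) ?_ ?_
          · rw [show s * (y.1.1⁻¹ * z.1.1) * s⁻¹ = (s * y.1.1 * s⁻¹)⁻¹ * (s * z.1.1 * s⁻¹) by group,
              y.1.2.1, z.1.2.1, inv_inv, mul_inv_rev, inv_inv]
            exact (hyz.inv_right).eq
          · show g⁻¹ * (y.1.1⁻¹ * z.1.1) * g * x₀ = x₀ * (g⁻¹ * (y.1.1⁻¹ * z.1.1) * g)
            calc g⁻¹ * (y.1.1⁻¹ * z.1.1) * g * x₀
                = (g⁻¹ * y.1.1 * g)⁻¹ * ((g⁻¹ * z.1.1 * g) * x₀ * (g⁻¹ * z.1.1 * g)⁻¹) * (g⁻¹ * z.1.1 * g) := by group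
              _ = (g⁻¹ * y.1.1 * g)⁻¹ * ((g⁻¹ * y.1.1 * g) * x₀ * (g⁻¹ * y.1.1 * g)⁻¹) * (g⁻¹ * z.1.1 * g) := by rw [e]
              _ = x₀ * (g⁻¹ * (y.1.1⁻¹ * z.1.1) * g) := by group
        exact inv_mul_eq_one.1 h1
    have hle := Nat.card_le_card_of_injective ψ' hψ
    haveI : Finite (F γ) := Subtype.finite
    rwa [hQs, Finite.card_option] at hle
  -- the involutions outside `Q`
  have hout : ∀ γ : Ω, ((γ.1.out : G) : G ⧸ N) = γ.1 := fun γ => QuotientGroup.out_eq' γ.1
  let Ψ : Ω × Qs → E := fun w => ⟨s * (w.1.1.out * (w.2.1 : G) * w.1.1.out⁻¹), by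
    set v := w.1.1.out * (w.2.1 : G) * w.1.1.out⁻¹ with hv
    have hvv : v * v = 1 := by
      rw [hv, show w.1.1.out * (w.2.1 : G) * w.1.1.out⁻¹ * (w.1.1.out * (w.2.1 : G) * w.1.1.out⁻¹) =
        w.1.1.out * ((w.2.1 : G) * (w.2.1 : G)) * w.1.1.out⁻¹ by group, C.sq _ w.2.1.2, mul_one, mul_inv_cancel]
    have hvQ : v ∉ (Q : Subgroup G) := fun hm => by
      have := C.mem_normalizer_of_conj hA w.2.1.2 (fun e => w.2.2 (Subtype.ext e)) hm
      exact w.1.2 ((hout w.1).symm.trans (QuotientGroup.eq.2 (by rw [mul_one]; exact inv_mem this)))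
    have hinvy : s * (s * v) * s⁻¹ = (s * v)⁻¹ := by
      rw [mul_inv_rev, inv_eq_of_mul_eq_one_right hvv, ← mul_assoc, hss, one_mul]
    refine ⟨hinvy, ?_, fun e => hvQ ?_⟩
    · rw [← Nat.not_even_iff_odd]
      intro hev
      obtain ⟨m, hm⟩ := hev
      have hmpos : 0 < m := by have := orderOf_pos (s * v); omega
      set z := (s * v) ^ m with hz
      have hzz : z * z = 1 := by rw [hz, ← pow_add, ← hm, pow_orderOf_eq_one]
      have hz1 : z ≠ 1 := fun e => by
        have := Nat.le_of_dvd hmpos (orderOf_dvd_of_pow_eq_one e); omega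
      have hzs : Commute z s := by
        have : s * z * s⁻¹ = z := by
          rw [hz, ← conj_pow, hinvy, inv_pow, inv_eq_of_mul_eq_one_right hzz]
        exact (mul_inv_eq_iff_eq_mul.1 this).symm
      have hzQ := C.mem_Q_of_commute hA hsQ hs1 hzz hzs
      have hzv : Commute v z := by
        have h1 : Commute (s * v) z := (Commute.refl _).pow_right m
        have h2 : v = s * (s * v) := by rw [← mul_assoc, hss, one_mul]
        rw [h2]
        exact hzs.symm.mul_left h1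
      exact hvQ (C.mem_Q_of_commute hA hzQ hz1 hvv hzv)
    · rw [← inv_eq_of_mul_eq_one_right e, inv_eq_of_mul_eq_one_right hss]; exact hsQ⟩
  have hΨ : Function.Injective Ψ := by
    rintro ⟨γ, x⟩ ⟨δ, z⟩ he
    have e : γ.1.out * (x.1 : G) * γ.1.out⁻¹ = δ.1.out * (z.1 : G) * δ.1.out⁻¹ :=
      mul_left_cancel (congrArg (fun w : E => w.1) he)
    have h1 : (δ.1.out⁻¹ * γ.1.out) * (x.1 : G) * (δ.1.out⁻¹ * γ.1.out)⁻¹ = (z.1 : G) := by
      calc (δ.1.out⁻¹ * γ.1.out) * (x.1 : G) * (δ.1.out⁻¹ * γ.1.out)⁻¹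
          = δ.1.out⁻¹ * (γ.1.out * (x.1 : G) * γ.1.out⁻¹) * δ.1.out := by group
        _ = (z.1 : G) := by rw [e]; group
    have h2 := C.mem_normalizer_of_conj hA x.1.2 (fun e => x.2 (Subtype.ext e)) (h1 ▸ z.1.2)
    have h3 : δ = γ := Subtype.ext (by rw [← hout δ, ← hout γ]; exact QuotientGroup.eq.2 h2)
    subst h3
    exact Prod.ext rfl (Subtype.ext (Subtype.ext (mul_left_cancel (mul_right_cancel e))))
  have hΩ : 0 < Nat.card Ω := by
    haveI : Nonempty Ω := by
      obtain ⟨g, -, hg⟩ := SetLike.exists_of_lt (lt_top_iff_ne_top.2 C.normalizer_ne_top)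
      exact ⟨⟨(g : G ⧸ N), fun e => hg (by
        rw [hα, QuotientGroup.eq, mul_one] at e
        exact inv_mem_iff.1 e)⟩⟩
    exact Nat.card_pos
  have h1 := Nat.card_le_card_of_injective Ψ hΨ
  have h2 := Nat.card_le_card_of_injective Φ hΦ
  haveI := Fintype.ofFinite Ω
  rw [Nat.card_prod, hQs] at h1
  rw [Nat.card_prod, Nat.card_sigma, Nat.card_eq_fintype_card (α := Bool), Fintype.card_bool] at h2
  have h3 : ∑ γ : Ω, Nat.card (F γ) ≤ Nat.card Ω * (p - 1) := by
    rw [Nat.card_eq_fintype_card, ← Finset.card_univ, ← smul_eq_mul]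
    exact Finset.sum_le_card_nsmul _ _ _ fun γ _ => by have := hF γ; omega
  have h4 : Nat.card Ω * (p - 1) < Nat.card Ω * p * 2 := by
    have := C.prime.pos
    nlinarith [Nat.sub_le p 1]
  nlinarith

end Conf

end CfsgLib.Solvable.TwoPrimeMixed
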