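import Cfsg.Agent.Lib.Solvable.TwoPrimeMixed.Count
import Cfsg.Agent.S3282

/-!
The case of a four-group: the Brauer–Suzuki–Wall theorem gives a contradiction.
-/

open Subgroup
open scoped Pointwise

set_option linter.style.haveILetI false

namespace CfsgLib.Solvable.TwoPrimeMixed

universe u

variable {G : Type u} [Group G] [Finite G]

namespace Conf

variable {p : ℕ} {Q : Sylow 2 G} {h : G} (C : Conf p Q h)

omit [Finite G] in
theorem smul_sylow_mem {q : ℕ} {g x : G} {P : Sylow q G} (hx : x ∈ (P : Subgroup G)) :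
    g * x * g⁻¹ ∈ ((g • P : Sylow q G) : Subgroup G) := by
  rw [Sylow.coe_subgroup_smul, mem_pointwise_smul_iff_inv_smul_mem]
  show (MulAut.conj g)⁻¹ (g * x * g⁻¹) ∈ (P : Subgroup G)
  rw [MulAut.inv_apply, MulAut.conj_symm_apply]
  convert hx using 1
  group

omit [Finite G] in
/-- An element of odd order equal to its inverse is trivial. -/
theorem eq_one_of_sq {x : G} (ho : Odd (orderOf x)) (hx : x * x = 1) : x = 1 := by
  rcases (Nat.dvd_prime Nat.prime_two).1 (orderOf_dvd_of_pow_eq_one (by rw [pow_two]; exact hx) :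
    orderOf x ∣ 2) with h | h
  · exact orderOf_eq_one_iff.1 h
  · rw [h] at ho; exact absurd ho (by decide)

include C

/-- The unique Sylow subgroup through an element that does not centralise `Q`. -/
theorem sylow_of (hQ4 : Nat.card (Q : Subgroup G) = 4) {t y : G} (ht : t ∈ (Q : Subgroup G))
    (ht1 : t ≠ 1) (hy : y ∈ C.M t) (hnA : ¬ ∀ u ∈ (Q : Subgroup G), Commute y u) :
    ∃ P : Sylow p G, ∀ x, x ∈ (P : Subgroup G) ↔ (Commute x y ∧ ∃ k, x ^ p ^ k = 1) := by
  classical
  haveI : Fact p.Prime := ⟨C.prime⟩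
  have hto := C.orderOf_Q ht ht1
  have hy1 : y ≠ 1 := fun e => hnA fun u _ => e ▸ Commute.one_left u
  set L := centralizer ({y} : Set G) with hL
  have hLne : L ≠ ⊤ := fun htop => hy1 (mem_bot.1 (C.center_bot ▸ (mem_center_iff.2 fun g =>
    mem_centralizer_singleton_iff.1 (htop.ge (mem_top g)))))
  have htL : t ∈ L := mem_centralizer_singleton_iff.2 (((C.mem_M hto).1 hy).1).eq.symm
  have h2L : 2 ∣ Nat.card L := two_dvd_card hto htL
  have hz : IsPGroup 2 (zpowers (⟨t, htL⟩ : L)) := by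
    refine IsPGroup.of_card (n := 1) ?_
    rw [Nat.card_zpowers, Subgroup.orderOf_mk, hto, pow_one]
  obtain ⟨S, hS⟩ := hz.exists_le_sylow
  obtain ⟨R, hR⟩ := (S.isPGroup'.map L.subtype).exists_le_sylow
  have hRcard : Nat.card (R : Subgroup G) = 4 := by
    rw [R.card_eq_multiplicity, ← Q.card_eq_multiplicity, hQ4]
  have hScard : Nat.card (S : Subgroup L) < 4 := by
    by_contra hge
    push Not at hge
    have hSR : (S : Subgroup L).map L.subtype = (R : Subgroup G) := eq_of_le_of_card_ge hR (by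
      rw [card_map_of_injective L.subtype_injective]; omega)
    have hRy : ∀ x ∈ (R : Subgroup G), Commute x y := by
      rw [← hSR]
      rintro _ ⟨x, -, rfl⟩
      exact mem_centralizer_singleton_iff.1 x.2
    have htR : t ∈ (R : Subgroup G) := hSR.le ⟨⟨t, htL⟩, hS (mem_zpowers _), rfl⟩
    obtain ⟨g, hg⟩ := MulAction.exists_smul_eq G Q R
    have hmem : ∀ x ∈ (R : Subgroup G), ∃ w ∈ (Q : Subgroup G), x = g * w * g⁻¹ := by
      intro x hx
      rw [← hg, Sylow.coe_subgroup_smul, mem_pointwise_smul_iff_inv_smul_mem] at hx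
      refine ⟨_, hx, ?_⟩
      show x = g * ((MulAut.conj g)⁻¹ x) * g⁻¹
      rw [MulAut.inv_apply, MulAut.conj_symm_apply]; group
    have hRsq : ∀ x ∈ (R : Subgroup G), x * x = 1 := fun x hx => by
      obtain ⟨w, hw, rfl⟩ := hmem x hx
      rw [show g * w * g⁻¹ * (g * w * g⁻¹) = g * (w * w) * g⁻¹ by group, C.sq w hw, mul_one, mul_inv_cancel]
    have hRc : ∀ x ∈ (R : Subgroup G), Commute x t := fun x hx => by
      obtain ⟨w, hw, rfl⟩ := hmem x hx
      obtain ⟨v, hv, hv'⟩ := hmem t htR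
      rw [hv']
      exact (C.Q_comm hw hv).map (MulAut.conj g).toMonoidHom
    choose m hm w hw hx using fun x : (R : Subgroup G) => C.cent_decomp ht ht1 (hRc x x.2)
    have hinj : Function.Injective (fun x : (R : Subgroup G) => (⟨w x, hw x⟩ : (Q : Subgroup G))) := by
      intro a b hab
      have hab' : w a = w b := congrArg Subtype.val hab
      have e : (a : G) * (b : G)⁻¹ = m a * (m b)⁻¹ := by rw [hx a, hx b, hab']; group
      have h1 := eq_one_of_sq (C.mem_M hto |>.1 (e.symm ▸ mul_mem (hm a) (inv_mem (hm b)) :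
        (a : G) * (b : G)⁻¹ ∈ C.M t)).2 (hRsq _ (mul_mem a.2 (inv_mem b.2)))
      exact Subtype.ext (mul_inv_eq_one.1 h1)
    have hsurj := (Nat.bijective_iff_injective_and_card
      (fun x : (R : Subgroup G) => (⟨w x, hw x⟩ : (Q : Subgroup G)))).2 ⟨hinj, by rw [hRcard, hQ4]⟩
    refine hnA fun u hu => ?_
    obtain ⟨x, hxu⟩ := hsurj.2 ⟨u, hu⟩
    have hxu' : w x = u := congrArg Subtype.val hxu
    have e : u = (m x)⁻¹ * x := by rw [← hxu']; exact (inv_mul_eq_iff_eq_mul.2 (hx x)).symm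
    rw [e]
    exact (C.M_comm hto hy (inv_mem (hm x))).mul_right (hRy _ x.2).symm
  have hnpc : Cfsg.HasNormalPComplement 2 L := by
    refine Fusion.Alperin.npc_of_frobenius S fun U hU g hg ho => ?_
    have hgo : Odd (orderOf (g : G)) := by rw [orderOf_coe]; exact Nat.coprime_two_right.1 ho
    have hgp := C.pow_of_odd hLne h2L g.2 hgo
    have hcard : Nat.card (U.map L.subtype) < p + 1 := by
      rw [card_map_of_injective L.subtype_injective, ← C.card, hQ4]
      exact lt_of_le_of_lt (Nat.le_of_dvd Nat.card_pos (card_dvd_of_le hU)) hScard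
    have h1 := C.small _ ((S.isPGroup'.to_le hU).map L.subtype) hcard _ hgp
      (le_normalizer_map (H := U) L.subtype (mem_map_of_mem L.subtype hg))
    exact mem_centralizer_iff.2 fun u hu => Subtype.ext
      (mem_centralizer_iff.1 h1 _ (mem_map_of_mem L.subtype hu))
  set P₁ := (Cfsg.pResidual 2 L).map L.subtype with hP₁
  have hmem₁ : ∀ x, x ∈ P₁ ↔ (Commute x y ∧ Odd (orderOf x)) := by
    intro x
    constructor
    · rintro ⟨w, hw, rfl⟩
      refine ⟨mem_centralizer_singleton_iff.1 w.2, ?_⟩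
      rw [coe_subtype, orderOf_coe]
      exact Nat.coprime_two_right.1 ((Fusion.Basic.mem_pResidual_iff hnpc).1 hw)
    · rintro ⟨hc, ho⟩
      refine ⟨⟨x, mem_centralizer_singleton_iff.2 hc.eq⟩, (Fusion.Basic.mem_pResidual_iff hnpc).2 ?_, rfl⟩
      rw [Subgroup.orderOf_mk]
      exact Nat.coprime_two_right.2 ho
  have hP₁p : IsPGroup p P₁ := fun x => by
    obtain ⟨hc, ho⟩ := (hmem₁ x).1 x.2
    obtain ⟨k, hk⟩ := C.pow_of_odd hLne h2L (mem_centralizer_singleton_iff.2 hc.eq) ho
    exact ⟨k, Subtype.ext hk⟩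
  obtain ⟨P, hP⟩ := hP₁p.exists_le_sylow
  have hyP : y ∈ (P : Subgroup G) := hP ((hmem₁ y).2 ⟨Commute.refl y, ((C.mem_M hto).1 hy).2⟩)
  refine ⟨P, fun x => ⟨fun hx => ?_, fun hx => hP ((hmem₁ x).2 ⟨hx.1, C.odd_of_pow hx.2⟩)⟩⟩
  obtain ⟨k, hk⟩ := P.isPGroup' ⟨x, hx⟩
  exact ⟨C.comm_of_pgroup P.isPGroup' hx hyP, k, congrArg Subtype.val hk⟩

theorem sylow_unique (hQ4 : Nat.card (Q : Subgroup G) = 4) {t y : G} (ht : t ∈ (Q : Subgroup G))
    (ht1 : t ≠ 1) (hy : y ∈ C.M t) (hnA : ¬ ∀ u ∈ (Q : Subgroup G), Commute y u)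
    {P R : Sylow p G} (hP : y ∈ (P : Subgroup G)) (hR : y ∈ (R : Subgroup G)) : P = R := by
  obtain ⟨T, hT⟩ := C.sylow_of hQ4 ht ht1 hy hnA
  have key : ∀ P : Sylow p G, y ∈ (P : Subgroup G) → P = T := fun P hP => by
    refine Sylow.ext (P.3 T.isPGroup' fun x hx => ?_).symm
    obtain ⟨k, hk⟩ := P.isPGroup' ⟨x, hx⟩
    exact (hT x).2 ⟨C.comm_of_pgroup P.isPGroup' hx hP, k, congrArg Subtype.val hk⟩
  rw [key P hP, key R hR]

theorem M_le_sylow (hQ4 : Nat.card (Q : Subgroup G) = 4) {t y : G} (ht : t ∈ (Q : Subgroup G))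
    (ht1 : t ≠ 1) (hy : y ∈ C.M t) (hnA : ¬ ∀ u ∈ (Q : Subgroup G), Commute y u)
    {P : Sylow p G} (hP : y ∈ (P : Subgroup G)) : C.M t ≤ (P : Subgroup G) := by
  intro x hx
  have hto := C.orderOf_Q ht ht1
  obtain ⟨R, hR⟩ := (C.M_isPGroup hto).exists_le_sylow
  rw [C.sylow_unique hQ4 ht ht1 hy hnA hP (hR hy)]
  exact hR hx

/-- The four-group configuration with a noncentral element is impossible. -/
theorem four_false (hQ4 : Nat.card (Q : Subgroup G) = 4) {t y u₀ : G} (ht : t ∈ (Q : Subgroup G))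
    (ht1 : t ≠ 1) (hy : y ∈ C.M t) (hu₀ : u₀ ∈ (Q : Subgroup G)) (hne : ¬ Commute y u₀) : False := by
  classical
  haveI : Fact p.Prime := ⟨C.prime⟩
  have hp3 : p = 3 := by have := C.card; omega
  have hto := C.orderOf_Q ht ht1
  have hnA : ¬ ∀ u ∈ (Q : Subgroup G), Commute y u := fun hall => hne (hall u₀ hu₀)
  set t₂ := h * t * h⁻¹ with ht₂
  set t₃ := h * t₂ * h⁻¹ with ht₃
  have ht₂Q : t₂ ∈ (Q : Subgroup G) := C.h_norm t ht
  have ht₃Q : t₃ ∈ (Q : Subgroup G) := C.h_norm t₂ ht₂Q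
  have ht₂1 : t₂ ≠ 1 := fun e => ht1 (conj_eq_one_iff.1 e)
  have ht₃1 : t₃ ≠ 1 := fun e => ht₂1 (conj_eq_one_iff.1 e)
  obtain ⟨w, hw, hw1, hwt⟩ := C.exists_pair ht
  have hallQ : ∀ (a b : G), a ∈ (Q : Subgroup G) → b ∈ (Q : Subgroup G) → a ≠ 1 → b ≠ 1 → a ≠ b →
      ∀ v ∈ (Q : Subgroup G), v = 1 ∨ v = a ∨ v = b ∨ v = a * b := by
    intro a b ha hb ha1 hb1 hab v hv
    by_contra hc
    push Not at hc
    have hab1 : a * b ≠ 1 := fun e => hab (by rw [← inv_eq_of_mul_eq_one_right e, C.Q_inv ha])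
    let f : Fin 5 → (Q : Subgroup G) :=
      ![1, ⟨a, ha⟩, ⟨b, hb⟩, ⟨a * b, mul_mem ha hb⟩, ⟨v, hv⟩]
    have hf : Function.Injective f := by
      intro i j hij
      have e : ((f i : (Q : Subgroup G)) : G) = f j := congrArg Subtype.val hij
      fin_cases i <;> fin_cases j <;> simp [f] at e ⊢ <;>
        first
          | exact ha1 e | exact ha1 e.symm | exact hb1 e | exact hb1 e.symm
          | exact hab e | exact hab e.symm | exact hab1 e | exact hab1 e.symm
          | exact hc.1 e | exact hc.1 e.symm | exact hc.2.1 e | exact hc.2.1 e.symm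
          | exact hc.2.2.1 e | exact hc.2.2.1 e.symm | exact hc.2.2.2 e | exact hc.2.2.2 e.symm
          | exact hb1 (by simpa using e) | exact ha1 (by simpa using e)
          | exact hb1 (by simpa using e.symm) | exact ha1 (by simpa using e.symm)
    have h5 := Nat.card_le_card_of_injective f hf
    rw [Nat.card_fin, hQ4] at h5
    omega
  have hclosure : ∀ (f : G), (∀ v ∈ (Q : Subgroup G), Commute f v) ↔ (Commute f t ∧ Commute f w) := by
    intro f
    refine ⟨fun hf => ⟨hf t ht, hf w hw⟩, fun hf v hv => ?_⟩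
    rcases hallQ t w ht hw ht1 hw1 (Ne.symm hwt) v hv with rfl | rfl | rfl | rfl
    · exact Commute.one_right f
    · exact hf.1
    · exact hf.2
    · exact hf.1.mul_right hf.2
  have hcent_of_fix : ¬ Commute h t := fun hc => by
    obtain ⟨n, hn⟩ := C.trans t ht w hw ht1 hw1
    rw [(hc.pow_left n).eq, mul_inv_cancel_right] at hn
    exact hwt hn.symm
  have h12 : t₂ ≠ t := fun e => hcent_of_fix (mul_inv_eq_iff_eq_mul.1 e)
  have h23 : t₃ ≠ t₂ := fun e => h12 (mul_left_cancel (mul_right_cancel (b := h⁻¹) e))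
  have h13 : t₃ ≠ t := by
    intro e
    have horb : ∀ n : ℕ, h ^ n * t * (h ^ n)⁻¹ = t ∨ h ^ n * t * (h ^ n)⁻¹ = t₂ := by
      intro n
      induction n with
      | zero => left; simp
      | succ n ih =>
        have e' : h ^ (n + 1) * t * (h ^ (n + 1))⁻¹ = h * (h ^ n * t * (h ^ n)⁻¹) * h⁻¹ := by
          rw [pow_succ']; group
        rw [e']
        rcases ih with ih | ih
        · right; rw [ih]
        · left; rw [ih]; exact e
    obtain ⟨v, hv, hv1, hvt, hv2⟩ : ∃ v ∈ (Q : Subgroup G), v ≠ 1 ∧ v ≠ t ∧ v ≠ t₂ := by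
      refine ⟨t * t₂, mul_mem ht ht₂Q, fun e => h12 ?_, fun e => ht₂1 (mul_eq_left.1 e), fun e => ht1 (mul_eq_right.1 e)⟩
      rw [← inv_eq_of_mul_eq_one_right e, C.Q_inv ht]
    obtain ⟨n, hn⟩ := C.trans t ht v hv ht1 hv1
    rcases horb n with h' | h' <;> rw [hn] at h'
    · exact hvt h'
    · exact hv2 h'
  have hcases := hallQ t t₂ ht ht₂Q ht1 ht₂1 (Ne.symm h12)
  have ht₃eq : t₃ = t * t₂ := by
    rcases hcases t₃ ht₃Q with e | e | e | e
    · exact absurd e ht₃1
    · exact absurd e h13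
    · exact absurd e h23
    · exact e
  have ht₁ : h * t₃ * h⁻¹ = t := by
    have e' : h * t₃ * h⁻¹ = (h * t * h⁻¹) * (h * t₂ * h⁻¹) := by rw [ht₃eq]; group
    rw [e', ← ht₂, ← ht₃, ht₃eq, ← mul_assoc, (C.Q_comm ht₂Q ht).eq, mul_assoc, C.sq t₂ ht₂Q, mul_one]
  -- transport of the data along `h`
  have hconjA : ∀ z, (¬ ∀ u ∈ (Q : Subgroup G), Commute z u) →
      ¬ ∀ u ∈ (Q : Subgroup G), Commute (h * z * h⁻¹) u := by
    intro z hz hall
    refine hz fun u hu => ?_
    have := (hall _ (C.h_norm u hu)).map (MulAut.conj h⁻¹).toMonoidHom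
    simpa [mul_assoc] using this
  have hconjM : ∀ a ∈ (Q : Subgroup G), a ≠ 1 → ∀ z ∈ C.M a, h * z * h⁻¹ ∈ C.M (h * a * h⁻¹) := by
    intro a ha ha1 z hz
    obtain ⟨h1, h2⟩ := (C.mem_M (C.orderOf_Q ha ha1)).1 hz
    refine (C.mem_M (C.orderOf_Q (C.h_norm a ha) fun e => ha1 (conj_eq_one_iff.1 e))).2
      ⟨h1.map (MulAut.conj h).toMonoidHom, ?_⟩
    show Odd (orderOf (MulAut.conj h z))
    rw [MulEquiv.orderOf_eq]; exact h2
  obtain ⟨k₀, hk₀⟩ := C.M_pow hto hy
  obtain ⟨P, hP⟩ := (mem_pgroup_of_pow hk₀).exists_le_sylow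
  have hyP : y ∈ (P : Subgroup G) := hP (mem_zpowers y)
  have hMP := C.M_le_sylow hQ4 ht ht1 hy hnA hyP
  set y₂ := h * y * h⁻¹ with hy₂
  set y₃ := h * y₂ * h⁻¹ with hy₃
  have hy₂M : y₂ ∈ C.M t₂ := hconjM t ht ht1 y hy
  have hy₃M : y₃ ∈ C.M t₃ := hconjM t₂ ht₂Q ht₂1 _ hy₂M
  have hy₂A := hconjA y hnA
  have hy₃A := hconjA _ hy₂A
  set P₂ : Sylow p G := h • P with hP₂
  set P₃ : Sylow p G := h • P₂ with hP₃
  have hy₂P : y₂ ∈ (P₂ : Subgroup G) := smul_sylow_mem hyP
  have hy₃P : y₃ ∈ (P₃ : Subgroup G) := smul_sylow_mem hy₂P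
  have hcycle : h • P₃ = P := by
    have h1 : h * y₃ * h⁻¹ ∈ C.M t := ht₁ ▸ hconjM t₃ ht₃Q ht₃1 _ hy₃M
    exact (C.sylow_unique hQ4 ht ht1 h1 (hconjA _ hy₃A) (smul_sylow_mem hy₃P) (hMP h1))
  have hnorm : h • P = P → False := by
    intro he
    obtain ⟨k, hk⟩ := C.h_pow
    have hsup := IsPGroup.to_sup_of_normal_left' P.2 (mem_pgroup_of_pow hk)
      (zpowers_le.2 (Sylow.smul_eq_iff_mem_normalizer.1 he))
    have hm : h ∈ (P : Subgroup G) := (P.3 hsup le_sup_left).le (mem_sup_right (mem_zpowers h))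
    have hc : Commute h y := C.comm_of_pgroup P.isPGroup' hm hyP
    have hyt₂ : Commute y t₂ :=
      ((hc.symm).mul_right ((C.mem_M hto).1 hy).1).mul_right hc.symm.inv_right
    refine hnA fun v hv => ?_
    rcases hcases v hv with rfl | rfl | rfl | rfl
    · exact Commute.one_right y
    · exact ((C.mem_M hto).1 hy).1
    · exact hyt₂
    · exact ((C.mem_M hto).1 hy).1.mul_right hyt₂
  have hPA : ∀ a, (a = t₂ ∨ a = t₃) → ∀ z ∈ (P : Subgroup G), z ∈ C.M a →
      ∀ v ∈ (Q : Subgroup G), Commute z v := by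
    intro a ha z hzP hzM
    by_contra hzA
    rcases ha with rfl | rfl
    · have h2 := C.M_le_sylow hQ4 ht₂Q ht₂1 hy₂M hy₂A hy₂P hzM
      have e := C.sylow_unique hQ4 ht₂Q ht₂1 hzM hzA hzP h2
      exact hnorm e.symm
    · have h2 := C.M_le_sylow hQ4 ht₃Q ht₃1 hy₃M hy₃A hy₃P hzM
      have e := C.sylow_unique hQ4 ht₃Q ht₃1 hzM hzA hzP h2
      exact hnorm (by conv_lhs => rw [e, hcycle])
  have hPc : ∀ x ∈ (P : Subgroup G), ∀ z ∈ (P : Subgroup G), Commute x z := fun x hx z hz =>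
    C.comm_of_pgroup P.isPGroup' hx hz
  have hPodd : ∀ x ∈ (P : Subgroup G), Odd (orderOf x) := fun x hx => by
    obtain ⟨k, hk⟩ := P.isPGroup' ⟨x, hx⟩
    exact C.odd_of_pow ⟨k, congrArg Subtype.val hk⟩
  have hQP : ∀ v ∈ (Q : Subgroup G), v • P = P := by
    intro v hv
    have h1 : v * y * v⁻¹ ∈ C.M t := C.M_conj hto (C.Q_comm hv ht) hy
    refine C.sylow_unique hQ4 ht ht1 h1 (fun hall => hnA fun u hu => ?_) (smul_sylow_mem hyP) (hMP h1)
    have h2 := (hall u hu).map (MulAut.conj v⁻¹).toMonoidHom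
    simp only [MulEquiv.coe_toMonoidHom, MulAut.conj_apply, inv_inv] at h2
    rw [show v⁻¹ * (v * y * v⁻¹) * v = y by group, mul_assoc, (C.Q_comm hu hv).eq, ← mul_assoc,
      inv_mul_cancel, one_mul] at h2
    exact h2
  have hQPmem : ∀ v ∈ (Q : Subgroup G), ∀ x ∈ (P : Subgroup G), v * x * v⁻¹ ∈ (P : Subgroup G) :=
    fun v hv x hx => by
      have := smul_sylow_mem (g := v) hx
      rwa [hQP v hv] at this
  -- `t` centralises `P`
  have htP : ∀ z ∈ (P : Subgroup G), Commute z t := by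
    intro z hz
    refine commute_of_pow_four (hPodd z hz) ?_
    obtain ⟨f₁, hf₁, f₂, hf₂, f₃, hf₃, c1, c2, c3, he⟩ :=
      C.decomp hPc ht ht₂Q (hQPmem t ht) (hQPmem t₂ ht₂Q) hz
    rw [he]
    refine (c1.mul_left ?_).mul_left ?_
    · exact hPA t₂ (Or.inl rfl) f₂ hf₂ ((C.mem_M (C.orderOf_Q ht₂Q ht₂1)).2 ⟨c2, hPodd _ hf₂⟩) t ht
    · exact hPA t₃ (Or.inr rfl) f₃ hf₃
        ((C.mem_M (C.orderOf_Q ht₃Q ht₃1)).2 ⟨ht₃eq ▸ c3, hPodd _ hf₃⟩) t ht
  have hMeq : ∀ x, x ∈ C.M t ↔ x ∈ (P : Subgroup G) := fun x =>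
    ⟨fun hx => hMP hx, fun hx => (C.mem_M hto).2 ⟨htP x hx, hPodd x hx⟩⟩
  -- the normaliser of `P`
  set N := normalizer ((P : Subgroup G) : Set G) with hN
  have hQN : (Q : Subgroup G) ≤ N := fun v hv => Sylow.smul_eq_iff_mem_normalizer.1 (hQP v hv)
  have hNne : N ≠ ⊤ := fun htop => by
    rcases C.normal _ (normalizer_eq_top_iff.1 htop) with h | h
    · exact hnA (fun u _ => (mem_bot.1 (h ▸ hyP) : y = 1) ▸ Commute.one_left u)
    · have := hPodd t (h ▸ mem_top t)
      rw [hto] at this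
      exact absurd this (by decide)
  have hNle : ∀ K : Subgroup G, (P : Subgroup G) ≤ K → (Q : Subgroup G) ≤ K → N ≤ K := by
    intro K hPK hQK
    rw [← subgroupOf_eq_top]
    refine Solvable.Cores.eq_top_of_sylow_le _ fun s hs => ?_
    haveI := Fact.mk hs
    by_cases hsd : s ∣ Nat.card N
    · rcases C.proper N hNne (two_dvd_card hto (hQN ht)) s hs hsd with h | h
      · subst h
        exact ⟨P.subtype le_normalizer, fun x hx => hPK hx⟩
      · subst h
        exact ⟨Q.subtype hQN, fun x hx => hQK hx⟩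
    · obtain ⟨S⟩ : Nonempty (Sylow s N) := inferInstance
      refine ⟨S, fun x hx => ?_⟩
      have h1 : Nat.card (S : Subgroup N) = 1 := by
        rw [S.card_eq_multiplicity, Nat.factorization_eq_zero_of_not_dvd hsd, pow_zero]
      rw [show x = 1 from mem_bot.1 (card_eq_one.1 h1 ▸ hx)]
      exact one_mem _
  -- only the identity of `P` centralises `Q`
  have hA1 : ∀ a ∈ (P : Subgroup G), (∀ v ∈ (Q : Subgroup G), Commute a v) → a = 1 := by
    intro a ha haQ
    have hNa : N ≤ centralizer ({a} : Set G) := hNle _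
      (fun x hx => mem_centralizer_singleton_iff.2 (hPc x hx a ha).eq)
      (fun v hv => mem_centralizer_singleton_iff.2 (haQ v hv).symm.eq)
    letI : CommGroup (P : Subgroup G) :=
      { (inferInstance : Group (P : Subgroup G)) with mul_comm := (C.abelian P).is_comm.comm }
    let φ : G →* (P : Subgroup G) := MonoidHom.transfer (MonoidHom.id (P : Subgroup G))
    rcases C.normal φ.ker inferInstance with hker | hker
    · exfalso
      have hinj : Function.Injective φ := (MonoidHom.ker_eq_bot_iff φ).1 hker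
      have : y ∈ center G := mem_center_iff.2 fun g => hinj (by rw [map_mul, map_mul, mul_comm])
      rw [C.center_bot, mem_bot] at this
      exact hnA fun u _ => this ▸ Commute.one_left u
    have h1 : φ a = 1 := hker.ge (mem_top a)
    have key : ∀ (k : ℕ) (g : G), g⁻¹ * a ^ k * g ∈ (P : Subgroup G) → g⁻¹ * a ^ k * g = a ^ k := by
      intro k g hg
      have hcP : ∀ z ∈ (P : Subgroup G), z ∈ centralizer ((P : Subgroup G) : Set G) := fun z hz =>
        mem_centralizer_iff.2 fun x hx => hPc x hx z hz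
      obtain ⟨n, hn, he⟩ := Fusion.Transfer.burnside_central P
        (hcP _ (pow_mem ha k)) (hcP _ hg) ⟨g⁻¹, by rw [inv_inv]⟩
      have hc : Commute n a := mem_centralizer_singleton_iff.1 (hNa hn)
      rw [← he, (hc.pow_right k).eq, mul_inv_cancel_right]
    have h2 : (a : G) ^ (P : Subgroup G).index = 1 := by
      have h3 := MonoidHom.transfer_eq_pow (MonoidHom.id (P : Subgroup G)) a key
      rw [show MonoidHom.transfer (MonoidHom.id (P : Subgroup G)) a = 1 from h1] at h3
      have h4 := congrArg Subtype.val h3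
      simpa using h4.symm
    obtain ⟨i, hi⟩ := P.isPGroup' ⟨a, ha⟩
    exact orderOf_eq_one_iff.1 (Nat.eq_one_of_dvd_coprimes
      ((C.prime.coprime_iff_not_dvd.2 P.not_dvd_index).pow_left i)
      (orderOf_dvd_of_pow_eq_one (congrArg Subtype.val hi)) (orderOf_dvd_of_pow_eq_one h2))
  -- the data for the Brauer–Suzuki–Wall theorem
  have htcomm : ∀ m ∈ (P : Subgroup G), Commute m t := htP
  let K : Subgroup G :=
    { carrier := {x | x ∈ (P : Subgroup G) ∨ x * t ∈ (P : Subgroup G)}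
      one_mem' := Or.inl (one_mem _)
      mul_mem' := by
        intro a b ha hb
        have e : ∀ m ∈ (P : Subgroup G), t * m = m * t := fun m hm => (htcomm m hm).symm.eq
        rcases ha with ha | ha <;> rcases hb with hb | hb
        · exact Or.inl (mul_mem ha hb)
        · exact Or.inr (by rw [mul_assoc]; exact mul_mem ha hb)
        · refine Or.inr ?_
          rw [mul_assoc, ← e b hb, ← mul_assoc]
          exact mul_mem ha hb
        · refine Or.inl ?_
          have h1 := mul_mem ha hb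
          rwa [mul_assoc a t, ← mul_assoc t b t, show t * b * t = b by
            have e2 := e _ hb
            calc t * b * t = t * (b * t) := mul_assoc _ _ _
              _ = b * t * t := e2
              _ = b := by rw [mul_assoc, C.sq t ht, mul_one]] at h1
      inv_mem' := by
        intro a ha
        rcases ha with ha | ha
        · exact Or.inl (inv_mem ha)
        · refine Or.inr ?_
          have h1 := inv_mem ha
          have e2 : Commute (a * t)⁻¹ t := (htcomm _ ha).inv_left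
          have e3 : a⁻¹ = t * (a * t)⁻¹ := by rw [mul_inv_rev, mul_inv_cancel_left]
          rw [e3, ← e2.eq, mul_assoc, C.sq t ht, mul_one]
          exact h1 }
  have hKt : ∀ x ∈ K, Commute x t := fun x hx => by
    rcases hx with hx | hx
    · exact htcomm x hx
    · have h1 := (htcomm _ hx).mul_left (show Commute t t from Commute.refl t)
      rwa [mul_assoc, C.sq t ht, mul_one] at h1
  have hKrep : ∀ x ∈ K, ∃ m ∈ (P : Subgroup G), (x = m ∨ x = m * t) := fun x hx => by
    rcases hx with hx | hx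
    · exact ⟨x, hx, Or.inl rfl⟩
    · exact ⟨x * t, hx, Or.inr (by rw [mul_assoc, C.sq t ht, mul_one])⟩
  have hKc : IsMulCommutative K := ⟨⟨fun a b => Subtype.ext (by
    obtain ⟨m, hm, ha⟩ := hKrep a a.2
    obtain ⟨n, hn, hb⟩ := hKrep b b.2
    show (a : G) * b = b * a
    rcases ha with ha | ha <;> rcases hb with hb | hb <;> rw [ha, hb]
    · exact (hPc m hm n hn).eq
    · exact ((hPc m hm n hn).mul_right (htcomm m hm)).eq
    · exact ((hPc m hm n hn).mul_left (htcomm n hn).symm).eq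
    · exact (((hPc m hm n hn).mul_right (htcomm m hm)).mul_left
        ((htcomm n hn).symm.mul_right (Commute.refl t))).eq)⟩⟩
  have htK : t ∈ K := Or.inr (by rw [C.sq t ht]; exact one_mem _)
  have ht₂inv : ∀ m ∈ (P : Subgroup G), t₂ * m * t₂⁻¹ = m⁻¹ := by
    intro m hm
    have hm' := hQPmem t₂ ht₂Q m hm
    refine eq_inv_of_mul_eq_one_left ?_
    set f := t₂ * m * t₂⁻¹ * m with hf
    have hfP : f ∈ (P : Subgroup G) := mul_mem hm' hm
    have hft₂ : Commute f t₂ := by
      have h1 : t₂ * f * t₂⁻¹ = f := by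
        rw [hf, show t₂ * (t₂ * m * t₂⁻¹ * m) * t₂⁻¹ = (t₂ * t₂) * m * (t₂⁻¹ * t₂⁻¹) * (t₂ * m * t₂⁻¹) by group,
          C.sq t₂ ht₂Q, ← mul_inv_rev, C.sq t₂ ht₂Q, inv_one, mul_one, one_mul]
        exact (hPc m hm _ hm').eq
      exact (mul_inv_eq_iff_eq_mul.1 h1).symm
    refine hA1 f hfP fun v hv => ?_
    rcases hcases v hv with rfl | rfl | rfl | rfl
    · exact Commute.one_right f
    · exact htcomm f hfP
    · exact hft₂
    · exact (htcomm f hfP).mul_right hft₂
  have ht₂K : t₂ ∉ K := fun hm => by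
    obtain ⟨m, hm, e⟩ := hKrep t₂ hm
    rcases e with e | e
    · have := hPodd t₂ (e ▸ hm)
      rw [C.orderOf_Q ht₂Q ht₂1] at this
      exact absurd this (by decide)
    · have hmQ : m ∈ (Q : Subgroup G) := by
        have : m = t₂ * t⁻¹ := eq_mul_inv_iff_mul_eq.2 e.symm
        rw [this]; exact mul_mem ht₂Q (inv_mem ht)
      by_cases hm1 : m = 1
      · exact h12 (by rw [e, hm1, one_mul])
      · have := hPodd m hm
        rw [C.orderOf_Q hmQ hm1] at this
        exact absurd this (by decide)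
  have hKle : K ≤ centralizer ({t} : Set G) := fun x hx => mem_centralizer_singleton_iff.2 (hKt x hx).eq
  have hH : K ⊔ zpowers t₂ = centralizer ({t} : Set G) := by
    refine le_antisymm (sup_le hKle
      (zpowers_le.2 (mem_centralizer_singleton_iff.2 (C.Q_comm ht₂Q ht).eq))) fun x hx => ?_
    obtain ⟨m, hm, v, hv, rfl⟩ := C.cent_decomp ht ht1 (mem_centralizer_singleton_iff.1 hx)
    refine mul_mem (mem_sup_left (Or.inl ((hMeq m).1 hm))) ?_
    rcases hcases v hv with rfl | rfl | rfl | rfl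
    · exact one_mem _
    · exact mem_sup_left htK
    · exact mem_sup_right (mem_zpowers _)
    · exact mul_mem (mem_sup_left htK) (mem_sup_right (mem_zpowers _))
  have hCK : K ⊓ centralizer ({t₂} : Set G) = zpowers t := by
    refine le_antisymm ?_ (zpowers_le.2 ⟨htK, mem_centralizer_singleton_iff.2 (C.Q_comm ht ht₂Q).eq⟩)
    rintro x ⟨hxK, hxc⟩
    have hxc' : Commute x t₂ := mem_centralizer_singleton_iff.1 hxc
    obtain ⟨m, hm, e⟩ := hKrep x hxK
    have hmc : Commute m t₂ := by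
      rcases e with e | e
      · exact e ▸ hxc'
      · have : m = x * t := by rw [e, mul_assoc, C.sq t ht, mul_one]
        rw [this]; exact hxc'.mul_left (C.Q_comm ht ht₂Q)
    have hm1 : m = 1 := hA1 m hm fun v hv => by
      rcases hcases v hv with rfl | rfl | rfl | rfl
      · exact Commute.one_right m
      · exact htcomm m hm
      · exact hmc
      · exact (htcomm m hm).mul_right hmc
    rcases e with e | e
    · rw [e, hm1]; exact one_mem _
    · rw [e, hm1, one_mul]; exact mem_zpowers t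
  have hinv : ∀ x ∈ K, t₂ * x * t₂⁻¹ = x⁻¹ := fun x hx => by
    obtain ⟨m, hm, e⟩ := hKrep x hx
    rcases e with e | e
    · rw [e, ht₂inv m hm]
    · rw [e, show t₂ * (m * t) * t₂⁻¹ = (t₂ * m * t₂⁻¹) * (t₂ * t * t₂⁻¹) by group,
        ht₂inv m hm, (C.Q_comm ht₂Q ht).eq, mul_inv_cancel_right, mul_inv_rev, C.Q_inv ht]
      exact ((htcomm m hm).inv_left).eq
  have hTI : ∀ g : G, g ∉ centralizer ({t} : Set G) → K ⊓ K.map (MulAut.conj g).toMonoidHom = ⊥ := by
    intro g hg
    refine (eq_bot_iff_forall _).2 fun x hx => ?_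
    obtain ⟨hxK, z, hzK, hzx⟩ := hx
    change g * z * g⁻¹ = x at hzx
    obtain ⟨m, hm, e⟩ := hKrep x hxK
    obtain ⟨n, hn, e'⟩ := hKrep z hzK
    have hsq : ∀ a b : G, b ∈ (P : Subgroup G) → (a = b ∨ a = b * t) → a * a = b * b := fun a b hb e => by
      rcases e with e | e
      · rw [e]
      · rw [e, show b * t * (b * t) = b * (t * b) * t by group, ← (htcomm b hb).eq, ← mul_assoc,
          mul_assoc (b * b), C.sq t ht, mul_one]
    have h1 : m * m = g * (n * n) * g⁻¹ := by
      rw [← hsq x m hm e, ← hsq z n hn e', ← hzx]; group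
    by_cases hm1 : m = 1
    · rcases e with e | e
      · rw [e, hm1]
      exfalso
      have hn1 : n = 1 := by
        refine eq_one_of_sq (hPodd n hn) ?_
        rw [hm1, one_mul, eq_comm, conj_eq_one_iff] at h1
        exact h1
      have hxt : x = t := by rw [e, hm1, one_mul]
      have hz : z = t := by
        rcases e' with e' | e'
        · exfalso
          rw [e', hn1, mul_one, mul_inv_cancel] at hzx
          exact ht1 (hxt ▸ hzx.symm)
        · rw [e', hn1, one_mul]
      rw [hz, hxt] at hzx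
      exact hg (mem_centralizer_singleton_iff.2 (mul_inv_eq_iff_eq_mul.1 hzx))
    · exfalso
      have hmm1 : m * m ≠ 1 := fun e => hm1 (eq_one_of_sq (hPodd m hm) e)
      have hmmP := mul_mem hm hm
      have hnA' : ¬ ∀ v ∈ (Q : Subgroup G), Commute (m * m) v := fun hall => hmm1 (hA1 _ hmmP hall)
      have h2 : m * m ∈ ((g • P : Sylow p G) : Subgroup G) := h1 ▸ smul_sylow_mem (mul_mem hn hn)
      have h3 := C.sylow_unique hQ4 ht ht1 ((hMeq _).2 hmmP) hnA' h2 hmmP
      have h4 : g ∈ N := Sylow.smul_eq_iff_mem_normalizer.1 h3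
      exact hg (hNle (centralizer ({t} : Set G))
        (fun a ha => mem_centralizer_singleton_iff.2 (htcomm a ha).eq)
        (fun v hv => mem_centralizer_singleton_iff.2 (C.Q_comm hv ht).eq) h4)
  have hconj : ∀ a b : G, orderOf a = 2 → orderOf b = 2 → IsConj a b := by
    have key : ∀ a : G, orderOf a = 2 → IsConj a t := fun a ha => by
      obtain ⟨g, hg⟩ := exists_conj_mem (Q := Q) ha
      have hg1 : g * a * g⁻¹ ≠ 1 := fun e => by rw [conj_eq_one_iff] at e; rw [e, orderOf_one] at ha; omega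
      obtain ⟨n, hn⟩ := C.trans _ hg t ht hg1 ht1
      exact isConj_iff.2 ⟨h ^ n * g, by rw [← hn]; group⟩
    exact fun a b ha hb => (key a ha).trans (key b hb).symm
  obtain ⟨Q₀, D, hcard, hcent, hDc, hDQ, hQD, hNQ, hX⟩ :=
    Cfsg.Agent.S3282.result t hto K hKc hKle htK t₂ (C.orderOf_Q ht₂Q ht₂1)
      (mem_centralizer_singleton_iff.2 (C.Q_comm ht₂Q ht).eq) ht₂K hH hCK hinv hTI hconj
  obtain ⟨r, hr, hrG, hrp, hr2⟩ := C.r_exists
  by_cases hD1 : D = ⊥
  · have hq0 : Nat.card Q₀ = 3 := by rw [← hDQ, hD1, card_bot]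
    rw [hq0] at hcard
    have h12' : Nat.card G = 12 := by omega
    rw [h12', show 12 = 2 ^ 2 * 3 by norm_num] at hrG
    rcases hr.dvd_mul.1 hrG with h' | h'
    · exact hr2 ((Nat.prime_dvd_prime_iff_eq hr Nat.prime_two).1 (hr.dvd_of_dvd_pow h'))
    · exact hrp (((Nat.prime_dvd_prime_iff_eq hr Nat.prime_three).1 h').trans hp3.symm)
  obtain ⟨-, u, hu, huD, huinv, hND⟩ := hX D le_rfl hD1
  have huN : zpowers u ≤ normalizer (D : Set G) := hND ▸ le_sup_right
  have hNDdvd : Nat.card (normalizer (D : Set G)) ∣ Nat.card D * 2 := by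
    rw [hND, ← hu, ← Nat.card_zpowers]
    exact KegelWielandt.card_sup_dvd huN
  have hdec : ∀ v ∈ normalizer (D : Set G), v ∈ D ∨ ∃ d ∈ D, v = d * u := by
    intro v hv
    rw [hND] at hv
    have hv' : v ∈ ((D : Subgroup G) : Set G) * ((zpowers u : Subgroup G) : Set G) := by
      rw [← coe_mul_of_right_le_normalizer_left _ _ huN]; exact hv
    obtain ⟨d, hd, w, hw, rfl⟩ := hv'
    obtain ⟨i, rfl⟩ := mem_zpowers_iff.1 hw
    have huu : u * u = 1 := by rw [← pow_two, ← hu, pow_orderOf_eq_one]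
    rcases Int.even_or_odd i with ⟨j, rfl⟩ | ⟨j, rfl⟩
    · left
      rw [zpow_add, ← (Commute.refl u).mul_zpow, huu, one_zpow]
      simpa using hd
    · right
      refine ⟨d, hd, ?_⟩
      rw [zpow_add, zpow_one, two_mul, zpow_add, ← (Commute.refl u).mul_zpow, huu, one_zpow, one_mul]
  -- `D` has even order
  have hDeven : 2 ∣ Nat.card D := by
    by_contra hodd
    have h2N : 2 ∣ Nat.card (normalizer (D : Set G)) :=
      two_dvd_card hu (huN (mem_zpowers u))
    have hpD : p ∣ Nat.card D := by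
      by_contra hpD
      have hpN : ¬ p ∣ Nat.card (normalizer (D : Set G)) := fun hd => by
        rcases C.prime.dvd_mul.1 (hd.trans hNDdvd) with h' | h'
        · exact hpD h'
        · exact C.ne_two ((Nat.prime_dvd_prime_iff_eq C.prime Nat.prime_two).1 h')
      obtain ⟨k, hk⟩ := IsPGroup.iff_card.mp ((C.mixed _ h2N hpN).to_le (le_normalizer (H := D)))
      rcases Nat.eq_zero_or_pos k with rfl | hk0
      · exact hD1 (card_eq_one.1 hk)
      · exact hodd (hk ▸ dvd_pow_self 2 hk0.ne')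
    obtain ⟨⟨x, hxD⟩, hx⟩ := exists_prime_orderOf_dvd_card' p hpD
    rw [Subgroup.orderOf_mk] at hx
    obtain ⟨R, hR⟩ := (mem_pgroup_of_pow (p := p) (k := 1) (x := x) (by rw [pow_one, ← hx, pow_orderOf_eq_one])).exists_le_sylow
    obtain ⟨g, hg⟩ := MulAction.exists_smul_eq G R P
    have hgx : Commute (g * x * g⁻¹) t := htcomm _ (hg ▸ smul_sylow_mem (hR (mem_zpowers x)))
    set v := g⁻¹ * t * g with hv
    have hvx : Commute x v := by
      have := hgx.map (MulAut.conj g⁻¹).toMonoidHom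
      simpa [hv, mul_assoc] using this
    have hv2 : orderOf v = 2 := by
      rw [hv, show g⁻¹ * t * g = MulAut.conj g⁻¹ t by rw [MulAut.conj_apply, inv_inv], MulEquiv.orderOf_eq, hto]
    have hx1 : x ≠ 1 := fun e => by rw [e, orderOf_one] at hx; exact C.prime.one_lt.ne hx
    have hNx := (hX (zpowers x) (zpowers_le.2 hxD) (by rwa [Ne, zpowers_eq_bot])).1
    have hvN : v ∈ normalizer (D : Set G) := by
      rw [← hNx]
      refine centralizer_le_normalizer _ (mem_centralizer_iff.2 fun z hz => ?_)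
      obtain ⟨i, rfl⟩ := hz
      exact (hvx.zpow_left i).eq
    rcases hdec v hvN with h' | ⟨d, hd, h'⟩
    · exact hodd (two_dvd_card hv2 h')
    · have e1 : v * x * v⁻¹ = x⁻¹ := by
        have hdx : d * x⁻¹ = x⁻¹ * d :=
          congrArg Subtype.val (hDc.is_comm.comm ⟨d, hd⟩ ⟨x⁻¹, inv_mem hxD⟩)
        rw [h', show d * u * x * (d * u)⁻¹ = d * (u * x * u⁻¹) * d⁻¹ by group, huinv x hxD, hdx,
          mul_inv_cancel_right]
      rw [← hvx.eq, mul_inv_cancel_right] at e1
      have e2 : orderOf x ∣ 2 := orderOf_dvd_of_pow_eq_one (by rw [pow_two]; nth_rw 1 [e1]; exact inv_mul_cancel x)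
      rw [hx] at e2
      exact C.ne_two ((Nat.prime_dvd_prime_iff_eq C.prime Nat.prime_two).1 e2)
  obtain ⟨⟨e, heD⟩, he⟩ := exists_prime_orderOf_dvd_card' 2 hDeven
  rw [Subgroup.orderOf_mk] at he
  have he1 : e ≠ 1 := fun e' => by rw [e', orderOf_one] at he; omega
  have hee : e * e = 1 := by rw [← pow_two, ← he, pow_orderOf_eq_one]
  -- `C(e) = N(D)`
  have hCe : centralizer ({e} : Set G) = normalizer (D : Set G) := by
    refine le_antisymm ?_ ?_
    · rw [← (hX (zpowers e) (zpowers_le.2 heD) (by rwa [Ne, zpowers_eq_bot])).1]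
      intro z hz
      refine centralizer_le_normalizer _ (mem_centralizer_iff.2 fun a ha => ?_)
      obtain ⟨i, rfl⟩ := ha
      exact ((show Commute z e from mem_centralizer_singleton_iff.1 hz).symm.zpow_left i).eq
    · intro z hz
      refine mem_centralizer_singleton_iff.2 ?_
      have hDe : ∀ d ∈ D, Commute d e := fun d hd =>
        congrArg Subtype.val (hDc.is_comm.comm ⟨d, hd⟩ ⟨e, heD⟩)
      have hue : Commute u e := by
        have := huinv e heD
        rw [inv_eq_of_mul_eq_one_right hee] at this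
        exact mul_inv_eq_iff_eq_mul.1 this
      rcases hdec z hz with h' | ⟨d, hd, rfl⟩
      · exact (hDe z h').eq
      · exact ((hDe d hd).mul_left hue).eq
  have hDcard2 : Nat.card (normalizer (D : Set G)) = Nat.card D * 2 := by
    refine Nat.dvd_antisymm hNDdvd ?_
    rw [← card_mul_index (D.subgroupOf (normalizer (D : Set G))),
      Nat.card_congr (subgroupOfEquivOfLe (le_normalizer (H := D))).toEquiv]
    refine mul_dvd_mul_left _ ?_
    have hne1 : D.relIndex (normalizer (D : Set G)) ≠ 1 := fun h1 =>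
      huD (relIndex_eq_one.1 h1 (huN (mem_zpowers u)))
    have hle2 : D.relIndex (normalizer (D : Set G)) ∣ 2 := by
      have h4 := card_mul_index (D.subgroupOf (normalizer (D : Set G)))
      rw [Nat.card_congr (subgroupOfEquivOfLe (le_normalizer (H := D))).toEquiv] at h4
      have h5 : Nat.card D * (D.subgroupOf (normalizer (D : Set G))).index ∣ Nat.card D * 2 := h4 ▸ hNDdvd
      exact Nat.dvd_of_mul_dvd_mul_left Nat.card_pos h5
    rcases (Nat.dvd_prime Nat.prime_two).1 hle2 with h | h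
    · exact absurd h hne1
    · exact dvd_of_eq h.symm
  -- the centraliser of `t` has order `4 |P|`
  have hCt : Nat.card (centralizer ({t} : Set G)) = 4 * Nat.card (P : Subgroup G) := by
    rw [← hQ4, mul_comm]
    let f : ↥(P : Subgroup G) × ↥(Q : Subgroup G) → centralizer ({t} : Set G) := fun w =>
      ⟨(w.1 : G) * w.2, mem_centralizer_singleton_iff.2
        ((htcomm _ w.1.2).mul_left (C.Q_comm w.2.2 ht)).eq⟩
    rw [← Nat.card_prod]
    refine (Nat.card_eq_of_bijective f ⟨?_, ?_⟩).symm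
    · rintro ⟨a, b⟩ ⟨a', b'⟩ h'
      have h'' : (a : G) * b = a' * b' := congrArg Subtype.val h'
      have e1 : (a' : G)⁻¹ * a = b' * (b : G)⁻¹ := by
        rw [inv_mul_eq_iff_eq_mul, ← mul_assoc, ← h'', mul_inv_cancel_right]
      have e2 := eq_one_of_sq (hPodd _ (mul_mem (inv_mem a'.2) a.2))
        (by rw [e1]; exact C.sq _ (mul_mem b'.2 (inv_mem b.2)))
      rw [inv_mul_eq_one] at e2
      rw [e2] at h''
      exact Prod.ext (Subtype.ext e2.symm) (Subtype.ext (mul_left_cancel h''))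
    · rintro ⟨c, hc⟩
      obtain ⟨m, hm, v, hv, rfl⟩ := C.cent_decomp ht ht1 (mem_centralizer_singleton_iff.1 hc)
      exact ⟨(⟨m, (hMeq m).1 hm⟩, ⟨v, hv⟩), rfl⟩
  have hDval : Nat.card D = 2 * Nat.card (P : Subgroup G) := by
    obtain ⟨g, hg⟩ := isConj_iff.1 (hconj e t he hto)
    have h1 : (centralizer ({e} : Set G)).map (MulAut.conj g).toMonoidHom = centralizer ({t} : Set G) := by
      ext z
      rw [mem_map_equiv, MulAut.conj_symm_apply, mem_centralizer_singleton_iff,
        mem_centralizer_singleton_iff, ← hg]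
      constructor
      · intro hz
        calc z * (g * e * g⁻¹) = g * ((g⁻¹ * z * g) * e) * g⁻¹ := by group
          _ = g * (e * (g⁻¹ * z * g)) * g⁻¹ := by rw [hz]
          _ = g * e * g⁻¹ * z := by group
      · intro hz
        calc g⁻¹ * z * g * e = g⁻¹ * (z * (g * e * g⁻¹)) * g := by group
          _ = g⁻¹ * (g * e * g⁻¹ * z) * g := by rw [hz]
          _ = e * (g⁻¹ * z * g) := by group
    have h2 : Nat.card ((centralizer ({e} : Set G)).map (MulAut.conj g).toMonoidHom) =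
        Nat.card (centralizer ({e} : Set G)) := card_map_of_injective (MulAut.conj g).injective
    rw [h1, hCt, hCe, hDcard2] at h2
    omega
  obtain ⟨k, hk⟩ := IsPGroup.iff_card.mp P.isPGroup'
  have hq0 : Nat.card Q₀ = 4 * 3 ^ k + 1 := by rw [← hDQ, hDval, hk, hp3]; ring
  have hQ₀pow : ∀ s : ℕ, s.Prime → s ∣ Nat.card Q₀ → s = p := by
    intro s hs hsd
    haveI := Fact.mk hs
    obtain ⟨⟨z, hz⟩, hzo⟩ := exists_prime_orderOf_dvd_card' s hsd
    rw [Subgroup.orderOf_mk] at hzo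
    have hz1 : z ≠ 1 := fun e' => by rw [e', orderOf_one] at hzo; exact hs.one_lt.ne hzo
    have heN : e ∈ normalizer (Q₀ : Set G) := hNQ ▸ mem_sup_right heD
    have hzc : ∀ a ∈ Q₀, Commute a z := fun a ha => by
      have h1 : a ∈ centralizer ({z} : Set G) := by rw [hcent z hz hz1]; exact ha
      exact mem_centralizer_singleton_iff.1 h1
    set z' := z * (e * z * e⁻¹)⁻¹ with hz'
    have hzQ' : e * z * e⁻¹ ∈ Q₀ := (mem_normalizer_iff.1 heN z).1 hz
    have hz'1 : z' ≠ 1 := fun h' => by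
      rw [hz', mul_inv_eq_one] at h'
      have h1 : e ∈ centralizer ({z} : Set G) :=
        mem_centralizer_singleton_iff.2 (mul_inv_eq_iff_eq_mul.1 h'.symm)
      rw [hcent z hz hz1] at h1
      exact he1 (mem_bot.1 (hQD ▸ (⟨h1, heD⟩ : e ∈ Q₀ ⊓ D)))
    have hz'o : orderOf z' = s := by
      refine orderOf_eq_prime ?_ hz'1
      have hc : Commute z (e * z * e⁻¹)⁻¹ := (hzc _ hzQ').symm.inv_right
      rw [hz', hc.mul_pow, inv_pow, conj_pow, ← hzo, pow_orderOf_eq_one, mul_one, one_mul, mul_inv_cancel,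
        inv_one]
    have hz'inv : e * z' * e⁻¹ = z'⁻¹ := by
      calc e * z' * e⁻¹ = e * z * e⁻¹ * ((e * e) * z * (e * e)⁻¹)⁻¹ := by rw [hz']; group
        _ = e * z * e⁻¹ * z⁻¹ := by rw [hee, one_mul, inv_one, mul_one]
        _ = z'⁻¹ := by rw [hz', mul_inv_rev, inv_inv]
    have hso : Odd s := by
      rw [← Nat.not_even_iff_odd, even_iff_two_dvd]
      intro h2
      have : 2 ∣ Nat.card Q₀ := h2.trans hsd
      rw [hq0] at this
      omega
    obtain ⟨j, hj⟩ := C.pow_of_inverted he hz'inv (hz'o ▸ hso)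
    exact (Nat.prime_dvd_prime_iff_eq hs C.prime).1
      (hs.dvd_of_dvd_pow (hz'o ▸ orderOf_dvd_of_pow_eq_one hj))
  have hj := Nat.eq_prime_pow_of_unique_prime_dvd (p := p) (n := Nat.card Q₀) Nat.card_pos.ne'
    fun {s} hs hsd => hQ₀pow s hs hsd
  set j := (Nat.card Q₀).primeFactorsList.length
  rw [hq0, hp3] at hj
  rcases Nat.eq_zero_or_pos k with rfl | hk0
  · rcases Nat.lt_or_ge j 2 with hj2 | hj2
    · interval_cases j <;> omega
    · have : 3 ^ 2 ≤ 3 ^ j := Nat.pow_le_pow_right (by norm_num) hj2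
      rw [pow_zero] at hj
      norm_num at this
      omega
  · obtain ⟨k', rfl⟩ := Nat.exists_eq_add_of_le hk0
    rcases Nat.eq_zero_or_pos j with hj0 | hj0
    · rw [hj0, pow_zero] at hj; exact absurd (Nat.succ_injective hj) (mul_ne_zero (by norm_num) (pow_ne_zero _ (by norm_num)))
    · obtain ⟨j', hj'⟩ := Nat.exists_eq_add_of_le hj0
      rw [hj', pow_add, pow_add, pow_one] at hj
      omega

end Conf

end CfsgLib.Solvable.TwoPrimeMixed
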