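import Cfsg.Agent.Lib.Solvable.TwoPrimeMixed.Count

/-!
If the Sylow 2-subgroup has order at least `8`, the odd-order parts of the involution centralisers
generate an abelian `p`-group, so they all centralise the Sylow 2-subgroup.
-/

open Subgroup

set_option linter.style.haveILetI false

namespace CfsgLib.Solvable.TwoPrimeMixed

universe u

variable {G : Type u} [Group G] [Finite G]

namespace Conf

variable {p : ℕ} {Q : Sylow 2 G} {h : G} (C : Conf p Q h)

include C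

theorem M_odd {t x : G} (ht : orderOf t = 2) (hx : x ∈ C.M t) : Odd (orderOf x) :=
  ((C.mem_M ht).1 hx).2

/-- An element centralised by a four-group commutes with every odd-order element of an involution
centraliser. -/
theorem commute_four {a b y : G} (ha : a ∈ (Q : Subgroup G)) (hb : b ∈ (Q : Subgroup G))
    (ha1 : a ≠ 1) (hb1 : b ≠ 1) (hab : a ≠ b) (hy : Odd (orderOf y)) (hya : Commute y a)
    (hyb : Commute y b) {c z : G} (hc : c ∈ (Q : Subgroup G)) (hc1 : c ≠ 1) (hz : z ∈ C.M c) :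
    Commute z y := by
  have hco := C.orderOf_Q hc hc1
  refine commute_of_pow_four (C.M_odd hco hz) ?_
  obtain ⟨f₁, hf₁, f₂, hf₂, f₃, hf₃, h1, h2, h3, he⟩ :=
    C.decomp (P := C.M c) (fun x hx y hy => C.M_comm hco hx hy) ha hb
      (fun x hx => C.M_conj hco (C.Q_comm ha hc) hx) (fun x hx => C.M_conj hco (C.Q_comm hb hc) hx) hz
  have key : ∀ (w f : G), w ∈ (Q : Subgroup G) → w ≠ 1 → f ∈ C.M c → Commute f w → Commute y w →
      Commute f y := fun w f hw hw1 hf hfw hyw => by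
    have hwo := C.orderOf_Q hw hw1
    exact C.M_comm hwo ((C.mem_M hwo).2 ⟨hfw, C.M_odd hco hf⟩) ((C.mem_M hwo).2 ⟨hyw, hy⟩)
  have hab1 : a * b ≠ 1 := fun e => hab (by rw [← inv_eq_of_mul_eq_one_right e, C.Q_inv ha])
  rw [he]
  exact ((key a f₁ ha ha1 hf₁ h1 hya).mul_left (key b f₂ hb hb1 hf₂ h2 hyb)).mul_left
    (key (a * b) f₃ (mul_mem ha hb) hab1 hf₃ h3 (hya.mul_right hyb))

theorem exists_outside {t : G} (h8 : 4 < Nat.card (Q : Subgroup G)) (u : G) :
    ∃ v ∈ (Q : Subgroup G), v ≠ 1 ∧ v ≠ t ∧ v ≠ u ∧ v ≠ t * u := by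
  by_contra hn
  push Not at hn
  have h1 : ((Q : Subgroup G) : Set G) ⊆ {1, t, u, t * u} := fun v hv => by
    simp only [Set.mem_insert_iff, Set.mem_singleton_iff]
    by_contra hc
    push Not at hc
    exact hc.2.2.2 (hn v hv hc.1 hc.2.1 hc.2.2.1)
  have h2 := Set.ncard_le_ncard h1
  have h3 : ({1, t, u, t * u} : Set G).ncard ≤ 4 := by
    refine (Set.ncard_insert_le _ _).trans (Nat.succ_le_succ ((Set.ncard_insert_le _ _).trans
      (Nat.succ_le_succ ((Set.ncard_insert_le _ _).trans (by rw [Set.ncard_singleton])))))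
  rw [← Nat.card_coe_set_eq] at h2
  have h4 : Nat.card ((Q : Subgroup G) : Set G) = Nat.card (Q : Subgroup G) := rfl
  omega

theorem M_commute_all (h8 : 4 < Nat.card (Q : Subgroup G)) {t y c z : G} (ht : t ∈ (Q : Subgroup G))
    (ht1 : t ≠ 1) (hy : y ∈ C.M t) (hc : c ∈ (Q : Subgroup G)) (hc1 : c ≠ 1) (hz : z ∈ C.M c) :
    Commute y z := by
  have hto := C.orderOf_Q ht ht1
  obtain ⟨u, hu, hu1, hut⟩ := C.exists_pair ht
  obtain ⟨v, hv, hv1, hvt, hvu, hvtu⟩ := C.exists_outside h8 (t := t) u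
  refine commute_of_pow_four (C.M_odd hto hy) ?_
  obtain ⟨f₁, hf₁, f₂, hf₂, f₃, hf₃, h1, h2, h3, he⟩ :=
    C.decomp (P := C.M t) (fun x hx y hy => C.M_comm hto hx hy) hu hv
      (fun x hx => C.M_conj hto (C.Q_comm hu ht) hx) (fun x hx => C.M_conj hto (C.Q_comm hv ht) hx) hy
  have key : ∀ (w f : G), w ∈ (Q : Subgroup G) → w ≠ 1 → w ≠ t → f ∈ C.M t → Commute f w →
      Commute f z := fun w f hw hw1 hwt hf hfw =>
    (C.commute_four ht hw ht1 hw1 (Ne.symm hwt) (C.M_odd hto hf) ((C.mem_M hto).1 hf).1 hfw hc hc1 hz).symm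
  have huv1 : u * v ≠ 1 := fun e => hvu (by rw [← inv_eq_of_mul_eq_one_right e, C.Q_inv hu])
  have huvt : u * v ≠ t := fun e => hvtu (by
    rw [← e, mul_assoc, (C.Q_comm hv hu).eq, ← mul_assoc, C.sq u hu, one_mul])
  rw [he]
  exact ((key u f₁ hu hu1 hut hf₁ h1).mul_left (key v f₂ hv hv1 hvt hf₂ h2)).mul_left
    (key (u * v) f₃ (mul_mem hu hv) huv1 huvt hf₃ h3)

theorem central_of_large (h8 : 4 < Nat.card (Q : Subgroup G)) : C.Central := by
  classical
  haveI : Fact p.Prime := ⟨C.prime⟩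
  set S : Set G := {x | ∃ t ∈ (Q : Subgroup G), t ≠ 1 ∧ x ∈ C.M t} with hS
  set W := Subgroup.closure S with hW
  have hcomm : ∀ x ∈ S, ∀ y ∈ S, x * y = y * x := by
    rintro x ⟨t, ht, ht1, hx⟩ y ⟨c, hc, hc1, hy⟩
    exact C.M_commute_all h8 ht ht1 hx hc hc1 hy
  have hWc : IsMulCommutative W := Subgroup.isMulCommutative_closure hcomm
  have hWp : IsPGroup p W := by
    rintro ⟨x, hx⟩
    suffices ∃ k, x ^ p ^ k = 1 by
      obtain ⟨k, hk⟩ := this
      exact ⟨k, Subtype.ext hk⟩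
    induction hx using Subgroup.closure_induction with
    | mem x hx =>
      obtain ⟨t, ht, ht1, hx⟩ := hx
      exact C.M_pow (C.orderOf_Q ht ht1) hx
    | one => exact ⟨0, one_pow _⟩
    | mul x y hx hy ihx ihy =>
      obtain ⟨i, hi⟩ := ihx
      obtain ⟨j, hj⟩ := ihy
      refine ⟨i + j, ?_⟩
      have hc : Commute x y := congrArg Subtype.val (hWc.is_comm.comm ⟨x, hx⟩ ⟨y, hy⟩)
      rw [hc.mul_pow, pow_add, pow_mul, hi, one_pow, one_mul, mul_comm (p ^ i), pow_mul, hj, one_pow]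
    | inv x _ ih =>
      obtain ⟨i, hi⟩ := ih
      exact ⟨i, by rw [inv_pow, hi, inv_one]⟩
  have hmap : W.map (MulAut.conj h).toMonoidHom = W := by
    refine eq_of_le_of_card_ge ?_ (card_map_of_injective (MulAut.conj h).injective).ge
    rw [hW, MonoidHom.map_closure]
    refine Subgroup.closure_mono ?_
    rintro _ ⟨x, ⟨t, ht, ht1, hx⟩, rfl⟩
    have ht' : h * t * h⁻¹ ≠ 1 := fun e => ht1 (conj_eq_one_iff.1 e)
    refine ⟨h * t * h⁻¹, C.h_norm t ht, ht', (C.mem_M (C.orderOf_Q (C.h_norm t ht) ht')).2 ⟨?_, ?_⟩⟩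
    · exact (((C.mem_M (C.orderOf_Q ht ht1)).1 hx).1).map (MulAut.conj h).toMonoidHom
    · show Odd (orderOf (MulAut.conj h x))
      rw [MulEquiv.orderOf_eq]
      exact C.M_odd (C.orderOf_Q ht ht1) hx
  have hhW : zpowers h ≤ normalizer (W : Set G) := by
    refine zpowers_le.2 (mem_normalizer_iff.2 fun y => ⟨fun hy => hmap.le ⟨y, hy, rfl⟩, fun hy => ?_⟩)
    obtain ⟨w, hw, hwy⟩ := hmap.ge hy
    rwa [← (MulAut.conj h).injective hwy]
  obtain ⟨k, hk⟩ := C.h_pow
  have hP := IsPGroup.to_sup_of_normal_left' hWp (mem_pgroup_of_pow hk) hhW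
  intro t ht ht1 y hy u hu
  by_cases hu1 : u = 1
  · subst hu1; exact Commute.one_right y
  have hyh : Commute h y := C.comm_of_pgroup hP (mem_sup_right (mem_zpowers h))
    (mem_sup_left (Subgroup.subset_closure ⟨t, ht, ht1, hy⟩))
  obtain ⟨n, hn⟩ := C.trans t ht u hu ht1 hu1
  rw [← hn]
  have hyn : Commute y (h ^ n) := (hyh.pow_left n).symm
  exact (hyn.mul_right ((C.mem_M (C.orderOf_Q ht ht1)).1 hy).1).mul_right hyn.inv_right

end Conf

end CfsgLib.Solvable.TwoPrimeMixed
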