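import Cfsg.Agent.Lib.Solvable.TwoPrimeMixed.Large
import Cfsg.Agent.Lib.Solvable.TwoPrimeMixed.Four

/-!
If a large prime `p` divides the order of every proper subgroup of mixed order, only `p` and `q`
divide the group order.
-/

open Subgroup
open scoped Pointwise

set_option linter.style.haveILetI false

namespace CfsgLib.Solvable.TwoPrimeMixed

universe u

section

variable {G : Type u} [Group G] [Finite G] {p q : ℕ}

omit [Finite G] in
theorem conj_pow_apply (x u : G) (i : ℕ) :
    (fun y => x * y * x⁻¹)^[i] u = x ^ i * u * (x ^ i)⁻¹ := by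
  induction i with
  | zero => simp
  | succ i ih => rw [Function.iterate_succ_apply', ih, pow_succ']; group

/-- A `p`-element moving an element of a subgroup it normalises. -/
theorem moved (hp : p.Prime) {U : Subgroup G} {x u : G} {k : ℕ} (hx : x ^ p ^ k = 1)
    (hxU : x ∈ normalizer (U : Set G)) (hu : u ∈ U) (hmove : x * u * x⁻¹ ≠ u) :
    p + 1 ≤ Nat.card U ∧
      (Nat.card U = p + 1 → ∀ v ∈ U, v ≠ 1 → ∃ n : ℕ, x ^ n * u * (x ^ n)⁻¹ = v) := by
  classical
  set f : G → G := fun y => x * y * x⁻¹ with hf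
  set d := Function.minimalPeriod f u with hd
  have hper : Function.IsPeriodicPt f (p ^ k) u := by
    show f^[p ^ k] u = u
    rw [hf, conj_pow_apply, hx, one_mul, inv_one, mul_one]
  have hdd : d ∣ p ^ k := hper.minimalPeriod_dvd
  have hd1 : d ≠ 1 := fun h1 => hmove (by
    have := Function.iterate_minimalPeriod (f := f) (x := u)
    rwa [← hd, h1, Function.iterate_one] at this)
  have hpd : p ≤ d := by
    obtain ⟨e, -, he⟩ := (Nat.dvd_prime_pow hp).1 hdd
    rcases Nat.eq_zero_or_pos e with rfl | he0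
    · rw [pow_zero] at he; exact absurd he hd1
    · rw [he]; exact Nat.le_self_pow he0.ne' p
  have hu1 : u ≠ 1 := fun e => hmove (by rw [e, mul_one, mul_inv_cancel])
  have hmem : ∀ i : ℕ, x ^ i * u * (x ^ i)⁻¹ ∈ U := fun i =>
    (mem_normalizer_iff.1 (pow_mem hxU i) u).1 hu
  let F : Option (Fin d) → U := fun o => o.elim 1 fun i => ⟨_, hmem i⟩
  have hF : Function.Injective F := by
    rintro (_ | i) (_ | j) he
    · rfl
    · exact absurd (conj_eq_one_iff.1 (congrArg Subtype.val he).symm) hu1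
    · exact absurd (conj_eq_one_iff.1 (congrArg Subtype.val he)) hu1
    · refine congrArg some (Fin.ext ((Function.iterate_eq_iterate_iff_of_lt_minimalPeriod i.2 j.2).1 ?_))
      rw [hf, conj_pow_apply, conj_pow_apply]
      exact congrArg Subtype.val he
  have hle := Nat.card_le_card_of_injective F hF
  rw [Finite.card_option, Nat.card_fin] at hle
  refine ⟨by omega, fun hcard v hv hv1 => ?_⟩
  have hb := (Nat.bijective_iff_injective_and_card F).2 ⟨hF, by rw [Finite.card_option, Nat.card_fin]; omega⟩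
  obtain ⟨o, ho⟩ := hb.2 ⟨v, hv⟩
  cases o with
  | none => exact absurd (congrArg Subtype.val ho).symm hv1
  | some i => exact ⟨i, congrArg Subtype.val ho⟩

end

theorem main_aux : ∀ (n : ℕ) (G : Type u) [Group G] [Finite G], Nat.card G = n →
    ∀ p q : ℕ, p.Prime → q.Prime → p ≠ q → p ≠ 2 → p ∣ Nat.card G → q ∣ Nat.card G →
    (∀ H : Subgroup G, H ≠ ⊤ → ¬ IsPGroup q H → q ∣ Nat.card H → p ∣ Nat.card H) →
    (q ^ (Nat.card G).factorization q - 1 < p ∨
      (p = q ^ (Nat.card G).factorization q - 1 ∧ ∀ P : Sylow p G, IsMulCommutative P)) →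
    ∀ r : ℕ, r.Prime → r ∣ Nat.card G → r = p ∨ r = q := by
  intro n
  induction n using Nat.strong_induction_on with | _ n ih => ?_
  intro G _ _ hn p q hp hq hpq hp2 hpG hqG hmix hlarge
  classical
  haveI := Fact.mk hp
  haveI := Fact.mk hq
  by_contra hgoal
  push Not at hgoal
  obtain ⟨r, hr, hrG, hrp, hrq⟩ := hgoal
  haveI := Fact.mk hr
  -- no subgroup of mixed order prime to `p`
  have noMixed : ∀ H : Subgroup G, q ∣ Nat.card H → ¬ p ∣ Nat.card H → IsPGroup q H := by
    intro H hqH hpH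
    by_contra hnot
    by_cases hH : H = ⊤
    · subst hH; rw [card_top] at hpH; exact hpH hpG
    · exact hpH (hmix H hH hnot hqH)
  -- no element of prime order `s ∉ {p, q}` normalises a nontrivial `q`-subgroup
  have noNorm : ∀ (s : ℕ), s.Prime → s ≠ p → s ≠ q → ∀ (U : Subgroup G), IsPGroup q U → U ≠ ⊥ →
      ∀ w ∈ normalizer (U : Set G), orderOf w ≠ s := by
    intro s hs hsp hsq U hU hU1 w hw hwo
    obtain ⟨i, hi⟩ := IsPGroup.iff_card.mp hU
    have hdvd := KegelWielandt.card_sup_dvd (X := U) (zpowers_le.2 hw)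
    rw [hi, Nat.card_zpowers, hwo] at hdvd
    have hqH : q ∣ Nat.card ↥(U ⊔ zpowers w) := by
      refine dvd_trans ?_ (card_dvd_of_le le_sup_left)
      rcases Nat.eq_zero_or_pos i with rfl | hi0
      · exact absurd (card_eq_one.1 hi) hU1
      · rw [hi]; exact dvd_pow_self q hi0.ne'
    have hpH : ¬ p ∣ Nat.card ↥(U ⊔ zpowers w) := fun hd => by
      rcases hp.dvd_mul.1 (hd.trans hdvd) with h | h
      · exact hpq ((Nat.prime_dvd_prime_iff_eq hp hq).1 (hp.dvd_of_dvd_pow h))
      · exact hsp ((Nat.prime_dvd_prime_iff_eq hp hs).1 h).symm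
    obtain ⟨j, hj⟩ := IsPGroup.iff_card.mp (noMixed _ hqH hpH)
    have h1 : s ∣ q ^ j := hj ▸ hwo ▸ orderOf_dvd_natCard (U ⊔ zpowers w) (mem_sup_right (mem_zpowers w))
    exact hsq ((Nat.prime_dvd_prime_iff_eq hs hq).1 (hs.dvd_of_dvd_pow h1))
  -- for a normal subgroup of order prime to `q`, only `p` divides the order
  have normalCoprime : ∀ M : Subgroup G, M.Normal → (Nat.card M).Coprime q →
      ∀ s : ℕ, s.Prime → s ∣ Nat.card M → s = p := by
    intro M hM hMq s hs hsM
    by_contra hsp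
    haveI := hM
    haveI := Fact.mk hs
    have hsq : s ≠ q := fun e => hq.coprime_iff_not_dvd.1 hMq.symm (e ▸ hsM)
    obtain ⟨S⟩ : Nonempty (Sylow s M) := inferInstance
    set S' := (S : Subgroup M).map M.subtype with hS'
    set NS := normalizer (S' : Set G) with hNS
    have hfr : NS ⊔ M = ⊤ := Sylow.normalizer_sup_eq_top S
    have hqN : q ∣ Nat.card NS := by
      have h1 := KegelWielandt.card_sup_dvd (X := M) (Y := NS) (by rw [normalizer_eq_top]; exact le_top)
      rw [sup_comm, hfr, card_top] at h1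
      rcases hq.dvd_mul.1 (hqG.trans h1) with h | h
      · exact absurd h (hq.coprime_iff_not_dvd.1 hMq.symm)
      · exact h
    obtain ⟨⟨w, hw⟩, hwo⟩ := exists_prime_orderOf_dvd_card' q hqN
    rw [Subgroup.orderOf_mk] at hwo
    obtain ⟨i, hi⟩ := IsPGroup.iff_card.mp (S.isPGroup'.map M.subtype)
    have hi0 : i ≠ 0 := by
      rintro rfl
      rw [pow_zero, card_map_of_injective M.subtype_injective] at hi
      exact S.not_dvd_index (by
        rw [← index_mul_card (S : Subgroup M), hi, mul_one] at hsM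
        exact hsM)
    have hdvd := KegelWielandt.card_sup_dvd (X := S') (zpowers_le.2 hw)
    rw [hi, Nat.card_zpowers, hwo] at hdvd
    have hqH : q ∣ Nat.card ↥(S' ⊔ zpowers w) :=
      hwo ▸ orderOf_dvd_natCard (S' ⊔ zpowers w) (mem_sup_right (mem_zpowers w))
    have hpH : ¬ p ∣ Nat.card ↥(S' ⊔ zpowers w) := fun hd => by
      rcases hp.dvd_mul.1 (hd.trans hdvd) with h | h
      · exact hsp ((Nat.prime_dvd_prime_iff_eq hp hs).1 (hp.dvd_of_dvd_pow h)).symm
      · exact hpq ((Nat.prime_dvd_prime_iff_eq hp hq).1 h)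
    obtain ⟨j, hj⟩ := IsPGroup.iff_card.mp (noMixed _ hqH hpH)
    have h1 : s ∣ q ^ j := by
      rw [← hj]
      exact ((dvd_pow_self s hi0).trans hi.symm.dvd).trans (card_dvd_of_le le_sup_left)
    exact hsq ((Nat.prime_dvd_prime_iff_eq hs hq).1 (hs.dvd_of_dvd_pow h1))
  -- there is no normal `q`-complement
  obtain ⟨Q⟩ : Nonempty (Sylow q G) := inferInstance
  have hnpc : ¬ Cfsg.HasNormalPComplement q G := by
    intro hc
    have hcop := Fusion.Basic.npc_iff_coprime.1 hc
    set M := Cfsg.pResidual q G with hM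
    have hrM : r ∣ Nat.card M := by
      have h1 : M ⊔ (Q : Subgroup G) = ⊤ := Fusion.Basic.pResidual_sup_sylow Q
      have h2 := KegelWielandt.card_sup_dvd (X := M) (Y := (Q : Subgroup G))
        (by rw [normalizer_eq_top]; exact le_top)
      rw [h1, card_top] at h2
      rcases hr.dvd_mul.1 (hrG.trans h2) with h | h
      · exact h
      · obtain ⟨k, hk⟩ := IsPGroup.iff_card.mp Q.isPGroup'
        exact absurd ((Nat.prime_dvd_prime_iff_eq hr hq).1 (hr.dvd_of_dvd_pow (hk ▸ h))) hrq
    exact hrp (normalCoprime M inferInstance hcop r hr hrM)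
  obtain ⟨U, hUQ, g, hgU, hgo, hgc⟩ : ∃ U : Subgroup G, U ≤ (Q : Subgroup G) ∧
      ∃ g ∈ normalizer (U : Set G), Nat.Coprime (orderOf g) q ∧ g ∉ centralizer (U : Set G) := by
    by_contra hc
    exact hnpc (Fusion.Alperin.npc_of_frobenius Q fun U hU g hg ho => by
      by_contra hgc
      exact hc ⟨U, hU, g, hg, ho, hgc⟩)
  have hU1 : U ≠ ⊥ := fun e => hgc (by
    refine mem_centralizer_iff.2 fun u hu => ?_
    rw [e] at hu
    rw [mem_bot.1 hu, one_mul, mul_one])
  have hUq : IsPGroup q U := Q.isPGroup'.to_le hUQ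
  obtain ⟨k, hgk⟩ : ∃ k, g ^ p ^ k = 1 := by
    refine ⟨(orderOf g).primeFactorsList.length, ?_⟩
    conv_lhs => rw [← Nat.eq_prime_pow_of_unique_prime_dvd (orderOf_pos g).ne' (p := p) fun {s} hs hsd => by
      by_contra hsp
      have hsq : s ≠ q := fun e => hq.coprime_iff_not_dvd.1 hgo.symm (e ▸ hsd)
      refine noNorm s hs hsp hsq U hUq hU1 _ (pow_mem hgU (orderOf g / s)) ?_
      rw [orderOf_pow, Nat.gcd_eq_right (Nat.div_dvd_of_dvd hsd),
        Nat.div_div_self hsd (orderOf_pos g).ne']]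
    exact pow_orderOf_eq_one g
  obtain ⟨u₀, hu₀, hmove⟩ : ∃ u ∈ U, g * u * g⁻¹ ≠ u := by
    by_contra hc
    push Not at hc
    exact hgc (mem_centralizer_iff.2 fun u hu => (mul_inv_eq_iff_eq_mul.1 (hc u hu)).symm)
  have hUcard := (moved hp hgk hgU hu₀ hmove).1
  have hQcard : Nat.card (Q : Subgroup G) = q ^ (Nat.card G).factorization q := Q.card_eq_multiplicity
  have hUle : Nat.card U ≤ q ^ (Nat.card G).factorization q :=
    hQcard ▸ Nat.le_of_dvd Nat.card_pos (card_dvd_of_le hUQ)
  rcases hlarge with hlt | ⟨heq, hab⟩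
  · omega
  have hUQ' : U = (Q : Subgroup G) := eq_of_le_of_card_ge hUQ (by omega)
  subst hUQ'
  have hQp : Nat.card (Q : Subgroup G) = p + 1 := by omega
  have htrans := (moved hp hgk hgU hu₀ hmove).2 hQp
  -- so `q = 2`
  obtain rfl : q = 2 := by
    have h1 : 2 ∣ Nat.card (Q : Subgroup G) := by
      rw [hQp]
      obtain ⟨m, rfl⟩ := hp.odd_of_ne_two hp2
      exact ⟨m + 1, by ring⟩
    rw [hQcard] at h1
    exact ((Nat.prime_dvd_prime_iff_eq Nat.prime_two hq).1 (Nat.prime_two.dvd_of_dvd_pow h1)).symm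
  -- the Sylow subgroup is elementary abelian
  obtain ⟨e, he⟩ : ∃ e : (Q : Subgroup G), orderOf e = 2 := exists_prime_orderOf_dvd_card' 2 (by
    rw [hQp]
    obtain ⟨m, rfl⟩ := hp.odd_of_ne_two hp2
    exact ⟨m + 1, by ring⟩)
  have he1 : (e : G) ≠ 1 := fun h => by
    rw [← orderOf_coe, h, orderOf_one] at he; omega
  have hall : ∀ v ∈ (Q : Subgroup G), ∀ w ∈ (Q : Subgroup G), v ≠ 1 → w ≠ 1 →
      ∃ n : ℕ, g ^ n * v * (g ^ n)⁻¹ = w := by
    intro v hv w hw hv1 hw1
    obtain ⟨i, rfl⟩ := htrans v hv hv1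
    obtain ⟨j, rfl⟩ := htrans w hw hw1
    have hfin : IsOfFinOrder g := isOfFinOrder_of_finite g
    obtain ⟨m, hm⟩ : ∃ m : ℕ, g ^ m = g ^ j * (g ^ i)⁻¹ := by
      refine ⟨j + (orderOf g - 1) * i, ?_⟩
      rw [pow_add]
      congr 1
      refine eq_inv_of_mul_eq_one_left ?_
      rw [← pow_add, ← orderOf_dvd_iff_pow_eq_one]
      refine ⟨i, ?_⟩
      have := hfin.orderOf_pos
      rw [← Nat.succ_mul, Nat.succ_eq_add_one, Nat.sub_add_cancel this]
    exact ⟨m, by rw [hm]; group⟩
  have hsq : ∀ v ∈ (Q : Subgroup G), v * v = 1 := by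
    intro v hv
    by_cases hv1 : v = 1
    · rw [hv1, mul_one]
    obtain ⟨n, rfl⟩ := hall e e.2 v hv he1 hv1
    have h2 : (e : G) * e = 1 := by
      rw [← pow_two, ← orderOf_dvd_iff_pow_eq_one, orderOf_coe, he]
    rw [show g ^ n * (e : G) * (g ^ n)⁻¹ * (g ^ n * (e : G) * (g ^ n)⁻¹) = g ^ n * ((e : G) * e) * (g ^ n)⁻¹ by group,
      h2, mul_one, mul_inv_cancel]
  have hQne : (Q : Subgroup G) ≠ ⊥ := fun h => by
    rw [h, card_bot] at hQp; have := hp.pos; omega
  have hsmall : ∀ U : Subgroup G, IsPGroup 2 U → Nat.card U < p + 1 → ∀ x : G, (∃ k, x ^ p ^ k = 1) →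
      x ∈ normalizer (U : Set G) → x ∈ centralizer (U : Set G) := by
    intro U _ hU x hx hxU
    obtain ⟨k, hk⟩ := hx
    refine mem_centralizer_iff.2 fun u hu => ?_
    by_contra hc
    have := (moved hp hk hxU hu fun h => hc (mul_inv_eq_iff_eq_mul.1 h).symm).1
    omega
  have hnocomm : ∀ t ∈ (Q : Subgroup G), t ≠ 1 → ¬ Commute g t := by
    intro t ht ht1 hc
    obtain ⟨n, hn⟩ := hall t ht u₀ hu₀ ht1 (fun e => hmove (by rw [e, mul_one, mul_inv_cancel]))
    rw [(hc.pow_left n).eq, mul_inv_cancel_right] at hn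
    exact hmove (hn ▸ mul_inv_eq_iff_eq_mul.2 hc.eq)
  have hproper : ∀ H : Subgroup G, H ≠ ⊤ → 2 ∣ Nat.card H → ∀ s : ℕ, s.Prime → s ∣ Nat.card H → s = p ∨ s = 2 := by
    intro K hK h2K s hs hsK
    by_cases hpK : p ∣ Nat.card K
    · refine ih (Nat.card K) (hn ▸ lt_of_le_of_ne (Nat.le_of_dvd Nat.card_pos (card_subgroup_dvd_card K))
        (fun e => hK (eq_top_of_card_eq K e))) K rfl p 2 hp hq hpq hp2 hpK h2K ?_ ?_ s hs hsK
      · intro J hJ hJp hJ2
        have hc := card_map_of_injective (K := J) K.subtype_injective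
        rw [← hc]
        refine hmix _ (fun e => hJ ?_) (fun hJ' => hJp ?_) (hc.symm ▸ hJ2)
        · refine eq_top_iff.2 fun x _ => ?_
          obtain ⟨y, hy, hyx⟩ := e.ge (mem_top (x : G))
          rwa [← Subtype.ext hyx]
        · obtain ⟨m, hm⟩ := IsPGroup.iff_card.mp hJ'
          exact IsPGroup.of_card (hc.symm.trans hm)
      · have hle : (Nat.card K).factorization 2 ≤ (Nat.card G).factorization 2 :=
          (Nat.factorization_le_iff_dvd Nat.card_pos.ne' Nat.card_pos.ne').2 (card_subgroup_dvd_card K) 2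
        rcases lt_or_eq_of_le hle with hlt | he'
        · left
          have := Nat.pow_lt_pow_right (show 1 < 2 by norm_num) hlt
          have := Nat.one_le_pow ((Nat.card K).factorization 2) 2 (by norm_num)
          omega
        · right
          refine ⟨he'.symm ▸ heq, fun P => ?_⟩
          obtain ⟨P', hP'⟩ := (P.isPGroup'.map K.subtype).exists_le_sylow
          refine ⟨⟨fun a b => Subtype.ext (Subtype.ext ?_)⟩⟩
          have h5 := congrArg Subtype.val ((hab P').is_comm.comm ⟨_, hP' (mem_map_of_mem K.subtype a.2)⟩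
            ⟨_, hP' (mem_map_of_mem K.subtype b.2)⟩)
          simpa using h5
    · obtain ⟨m, hm⟩ := IsPGroup.iff_card.mp (noMixed K h2K hpK)
      exact Or.inr ((Nat.prime_dvd_prime_iff_eq hs hq).1 (hs.dvd_of_dvd_pow (hm ▸ hsK)))
  -- simplicity
  have hnormal : ∀ N : Subgroup G, N.Normal → N = ⊥ ∨ N = ⊤ := by
    intro N hN
    by_contra hc
    push Not at hc
    obtain ⟨hNb, hNt⟩ := hc
    haveI := hN
    have hNlt := hproper
    by_cases h2N : 2 ∣ Nat.card N
    · -- the even case
      have hQN : (Q : Subgroup G) ≤ N := by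
        by_contra hle
        set I := (Q : Subgroup G) ⊓ N with hI
        have hI1 : I ≠ ⊥ := by
          obtain ⟨⟨x, hxN⟩, hxo⟩ := exists_prime_orderOf_dvd_card' 2 h2N
          rw [Subgroup.orderOf_mk] at hxo
          have hz : IsPGroup 2 (zpowers x) := IsPGroup.of_card (n := 1) (by rw [Nat.card_zpowers, hxo, pow_one])
          obtain ⟨R, hR⟩ := hz.exists_le_sylow
          obtain ⟨c, hc⟩ := MulAction.exists_smul_eq G R Q
          intro h
          have h1 : c * x * c⁻¹ ∈ I := ⟨hc ▸ Conf.smul_sylow_mem (hR (mem_zpowers x)), hN.conj_mem x hxN c⟩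
          rw [h, mem_bot, conj_eq_one_iff] at h1
          rw [h1, orderOf_one] at hxo
          omega
        have hIlt : Nat.card I < p + 1 := by
          rw [← hQp]
          exact lt_of_le_of_ne (Nat.le_of_dvd Nat.card_pos (card_dvd_of_le inf_le_left))
            (fun h => hle ((eq_of_le_of_card_ge inf_le_left h.ge).ge.trans inf_le_right))
        have hgI : g ∈ normalizer (I : Set G) := by
          refine mem_normalizer_iff.2 fun y => ?_
          rw [hI, mem_inf, mem_inf]
          exact and_congr (mem_normalizer_iff.1 hgU y)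
            ⟨fun hy => hN.conj_mem y hy g, fun hy => by
              have := hN.conj_mem _ hy g⁻¹
              rwa [show g⁻¹ * (g * y * g⁻¹) * g⁻¹⁻¹ = y by group] at this⟩
        obtain ⟨⟨x, hx⟩, hx1⟩ := ne_bot_iff_exists_ne_one.1 hI1
        exact hnocomm x (inf_le_left (α := Subgroup G) hx) (fun e => hx1 (Subtype.ext e))
          (mem_centralizer_iff.1 (hsmall I (Q.isPGroup'.to_le inf_le_left) hIlt g ⟨k, hgk⟩ hgI) x hx).symm
      set NQ := normalizer ((Q : Subgroup G) : Set G)
      have hNQt : NQ ≠ ⊤ := fun htop => by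
        obtain ⟨w, hw⟩ := exists_prime_orderOf_dvd_card' r hrG
        exact noNorm r hr hrp hrq _ Q.isPGroup' hQne w (htop.ge (mem_top w)) hw
      have hsup : NQ ⊔ N = ⊤ := Sylow.normalizer_sup_eq_top' Q hQN
      have h1 := KegelWielandt.card_sup_dvd (X := N) (Y := NQ) (by rw [normalizer_eq_top]; exact le_top)
      rw [sup_comm, hsup, card_top] at h1
      rcases hr.dvd_mul.1 (hrG.trans h1) with h | h
      · rcases hNlt N hNt h2N r hr h with h | h
        · exact hrp h
        · exact hrq h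
      · rcases hNlt NQ hNQt ((dvd_pow_self 2
          ((hq.factorization_pos_of_dvd Nat.card_pos.ne' hqG).ne')).trans
            (hQcard ▸ card_dvd_of_le le_normalizer)) r hr h with h | h
        · exact hrp h
        · exact hrq h
    -- the odd case: `N` is a `p`-group and the quotient is smaller
    have hcop2 : (Nat.card N).Coprime 2 := ((hq.coprime_iff_not_dvd).2 h2N).symm
    obtain ⟨m, hm⟩ : ∃ m, Nat.card N = p ^ m := ⟨_, Nat.eq_prime_pow_of_unique_prime_dvd Nat.card_pos.ne'
      fun {s} hs hsd => normalCoprime N hN hcop2 s hs hsd⟩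
    have hGN : Nat.card G = Nat.card (G ⧸ N) * p ^ m := by rw [← hm]; exact card_eq_card_quotient_mul_card_subgroup N
    have hlift : ∀ K : Subgroup (G ⧸ N), 2 ∣ Nat.card K → ¬ p ∣ Nat.card K → IsPGroup 2 K := by
      intro K h2K hpK
      set H := K.comap (QuotientGroup.mk' N) with hH
      have hNH : N ≤ H := fun x hx => by
        show QuotientGroup.mk' N x ∈ K
        rw [QuotientGroup.mk'_apply, (QuotientGroup.eq_one_iff x).2 hx]; exact one_mem K
      set N' := N.subgroupOf H
      have hN'i : N'.index = Nat.card K := by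
        have h1 := index_ker ((QuotientGroup.mk' N).subgroupComap K)
        have h2 : ((QuotientGroup.mk' N).subgroupComap K).ker = N' := by
          ext x
          rw [MonoidHom.mem_ker, mem_subgroupOf, ← QuotientGroup.eq_one_iff]
          exact Subtype.ext_iff
        rw [h2, MonoidHom.range_eq_top.2
          (MonoidHom.subgroupComap_surjective_of_surjective _ _ (QuotientGroup.mk'_surjective N)), card_top] at h1
        exact h1
      have hN'c : Nat.card N' = p ^ m := by
        rw [Nat.card_congr (subgroupOfEquivOfLe hNH).toEquiv, hm]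
      obtain ⟨L, hL⟩ := exists_right_complement'_of_coprime (N := N') (by
        rw [hN'c, hN'i]; exact (hp.coprime_iff_not_dvd.2 hpK).pow_left m)
      have hLc : Nat.card (L.map H.subtype) = Nat.card K := by
        rw [card_map_of_injective H.subtype_injective, ← hN'i, hL.symm.index_eq_card]
      obtain ⟨i, hi⟩ := IsPGroup.iff_card.mp (noMixed _ (hLc ▸ h2K) (hLc ▸ hpK))
      exact IsPGroup.of_card (hLc.symm.trans hi)
    have hpQ : p ∣ Nat.card (G ⧸ N) := by
      by_contra hnp
      have h2 : 2 ∣ Nat.card (G ⧸ N) :=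
        (Nat.Coprime.dvd_of_dvd_mul_right (hm ▸ hcop2.symm) (hGN ▸ hqG))
      obtain ⟨i, hi⟩ := IsPGroup.iff_card.mp (hlift ⊤ (by rw [card_top]; exact h2) (by rw [card_top]; exact hnp))
      rw [card_top] at hi
      rw [hGN, hi] at hrG
      rcases hr.dvd_mul.1 hrG with h | h
      · exact hrq ((Nat.prime_dvd_prime_iff_eq hr hq).1 (hr.dvd_of_dvd_pow h))
      · exact hrp ((Nat.prime_dvd_prime_iff_eq hr hp).1 (hr.dvd_of_dvd_pow h))
    have hlt : Nat.card (G ⧸ N) < n := hn ▸ Basic.card_quotient_lt N hNb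
    have hrQ : r ∣ Nat.card (G ⧸ N) := by
      refine Nat.Coprime.dvd_of_dvd_mul_right ?_ (hGN ▸ hrG)
      exact ((Nat.coprime_primes hr hp).2 hrp).pow_right m
    have hfac : (Nat.card (G ⧸ N)).factorization 2 = (Nat.card G).factorization 2 := by
      rw [hGN, Nat.factorization_mul Nat.card_pos.ne' (pow_ne_zero _ hp.ne_zero), hp.factorization_pow]
      simp [hp2]
    rcases ih _ hlt (G ⧸ N) rfl p 2 hp hq hpq hp2 hpQ
      ((Nat.Coprime.dvd_of_dvd_mul_right (hm ▸ hcop2.symm) (hGN ▸ hqG)))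
      (fun K hK hKp hK2 => by by_contra hc; exact hKp (hlift K hK2 hc))
      (Or.inr ⟨by rw [hfac]; exact heq, fun P => by
        obtain ⟨P₀⟩ : Nonempty (Sylow p G) := inferInstance
        obtain ⟨c, hc⟩ := MulAction.exists_smul_eq (G ⧸ N) (P₀.mapSurjective (QuotientGroup.mk'_surjective N)) P
        obtain ⟨c', rfl⟩ := QuotientGroup.mk'_surjective N c
        refine ⟨⟨fun a b => Subtype.ext ?_⟩⟩
        have key : ∀ x ∈ (P : Subgroup (G ⧸ N)), ∃ y ∈ (P₀ : Subgroup G),
            x = QuotientGroup.mk' N (c' * y * c'⁻¹) := by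
          intro x hx
          rw [← hc, Sylow.coe_subgroup_smul, mem_pointwise_smul_iff_inv_smul_mem] at hx
          obtain ⟨y, hy, hyx⟩ := hx
          refine ⟨y, hy, ?_⟩
          rw [map_mul, map_mul, map_inv, hyx]
          show x = QuotientGroup.mk' N c' * ((MulAut.conj (QuotientGroup.mk' N c'))⁻¹ x) * _
          rw [MulAut.inv_apply, MulAut.conj_symm_apply]; group
        obtain ⟨y, hy, hay⟩ := key a a.2
        obtain ⟨z, hz, hbz⟩ := key b b.2
        show (a : G ⧸ N) * b = b * a
        rw [hay, hbz, ← map_mul, ← map_mul]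
        congr 1
        have h3 : y * z = z * y := congrArg Subtype.val ((hab P₀).is_comm.comm ⟨y, hy⟩ ⟨z, hz⟩)
        rw [show c' * y * c'⁻¹ * (c' * z * c'⁻¹) = c' * (y * z) * c'⁻¹ by group, h3]
        group⟩) r hr hrQ with h | h
    · exact hrp h
    · exact hrq h
  have hC : Conf p Q g := by
    refine ⟨hp, hp2, ⟨r, hr, hrG, hrp, hrq⟩, noMixed, hproper, hnormal, ?_, hab, hQp, hsq, ⟨k, hgk⟩,
      fun x hx => (mem_normalizer_iff.1 hgU x).1 hx, hall, ?_, hsmall⟩
    · rcases hnormal (center G) inferInstance with h | h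
      · exact h
      · exact absurd (mem_center_iff.1 (h.ge (mem_top (e : G))) g) (fun hh => hnocomm e e.2 he1 hh)
    · intro R x hx hxR t ht ht1 hxt u hu
      by_contra hc
      obtain ⟨j, hj⟩ := hx
      have hR : Nat.card (R : Subgroup G) = p + 1 := by
        rw [R.card_eq_multiplicity, ← hQcard, hQp]
      have hum : x * u * x⁻¹ ≠ u := fun h => hc (mul_inv_eq_iff_eq_mul.1 h)
      obtain ⟨n, hn⟩ := (moved hp hj hxR hu hum).2 hR t ht ht1
      have h2 : (x ^ n)⁻¹ * t * x ^ n = t := by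
        rw [mul_assoc, ← ((hxt.pow_left n).eq), inv_mul_cancel_left]
      refine hum ?_
      have h3 : u = t := by
        rw [← h2, ← hn]; group
      rw [h3]
      exact mul_inv_eq_iff_eq_mul.2 hxt.eq
  by_cases hcen : hC.Central
  · exact hC.central_false hcen
  obtain ⟨a, ha⟩ := IsPGroup.iff_card.mp Q.isPGroup'
  have h4 : Nat.card (Q : Subgroup G) = 4 := by
    rcases Nat.lt_or_ge 4 (Nat.card (Q : Subgroup G)) with h | h
    · exact absurd (hC.central_of_large h) hcen
    · have := hp.two_le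
      omega
  simp only [Conf.Central, not_forall] at hcen
  obtain ⟨t, ht, ht1, y, hy, u, hu, hne⟩ := hcen
  exact hC.four_false h4 ht ht1 hy hu hne

end CfsgLib.Solvable.TwoPrimeMixed
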